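import Groth.Agent.Lib.Ample.VeryAmple
import Groth.Agent.Lib.Ample.CocPullback
import Groth.Agent.Lib.ProjCohom.Twist
import Groth.Agent.Lib.ProjPic26.Over
import Groth.Agent.Lib.Chow.Projective
import Groth.Agent.Lib.Euler.Basic

/-!
# A power of an ample module embeds a proper scheme into projective space
-/

set_option autoImplicit false
set_option linter.style.haveILetI false
set_option maxHeartbeats 1000000
set_option backward.isDefEq.respectTransparency false

universe u

open CategoryTheory CategoryTheory.Limits AlgebraicGeometry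

noncomputable section

namespace GrothLib.DecSh20

theorem exists_embedding (k : Type u) [Field k] {X : Scheme.{u}} [X.Over (Spec (CommRingCat.of k))]
    [IsProper (X ↘ Spec (CommRingCat.of k))] {L : X.Modules} (hL : CohB1.IsAmple L) :
    ∃ (r n : ℕ) (i : X ⟶ CohB1.ProjSpace n k), 0 < r ∧ IsClosedImmersion i ∧
      i ≫ CohB1.ProjSpace.toSpec n k = X ↘ Spec (CommRingCat.of k) ∧
      Nonempty (CohB1.tensorPow L r ≅ (Scheme.Modules.pullback i).obj (Twist.twistProjSpace n k 1)) := by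
  haveI := Euler.isNoetherian_of_proper (X := X) k
  haveI := hL.2.1
  obtain ⟨c, ⟨e⟩⟩ := Ample.exists_cocycle hL.1
  obtain ⟨c', ⟨e'⟩⟩ := Ample.exists_cocycle (Euler.isInvertible_structure (X := X))
  obtain ⟨n₀, hn₀⟩ := Ample.eventually_isRelVeryAmplePn (X ↘ Spec (CommRingCat.of k)) c c'
    ((c.isAmple_iff e).mp hL).2
  obtain ⟨p⟩ := c.nonempty_tensorPow_iso_pow e (n₀ + 1)
  obtain ⟨m⟩ := (c.pow (n₀ + 1)).nonempty_tensorMod_iso_prod c' p e'
  obtain ⟨n, j, hj, hjb, ⟨φ⟩⟩ := hn₀ (n₀ + 1) n₀.le_succ m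
  haveI := hj
  obtain ⟨ω, hω1, hω⟩ := ProjPic26.exists_isPullback_point (n := n) (Spec (CommRingCat.of k))
    (𝟙 (Spec (CommRingCat.of k)))
  haveI : IsIso ω := hω.isIso_fst_of_isIso
  let i : X ⟶ CohB1.ProjSpace n k := j ≫ inv ω
  have hib : i ≫ CohB1.ProjSpace.toSpec n k = X ↘ Spec (CommRingCat.of k) := by
    have h2 : CohB1.ProjSpace.toSpec n k = ω ≫ CohB1.ProjSpaceOver.toBase n (Spec (CommRingCat.of k)) := by
      rw [hω.w, Category.comp_id]
    rw [h2]
    simp only [i, Category.assoc, IsIso.inv_hom_id_assoc]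
    exact hjb
  haveI : IsProper (CohB1.ProjSpace.toSpec n k) := Chow.isProper_toSpec n k
  haveI : IsProper (i ≫ CohB1.ProjSpace.toSpec n k) := by rw [hib]; infer_instance
  haveI : IsProper i := IsProper.of_comp i (CohB1.ProjSpace.toSpec n k)
  haveI : IsImmersion i := inferInstance
  have hi : IsClosedImmersion i := Chow.isClosedImmersion_of_isImmersion_of_isProper i
  obtain ⟨ψ⟩ := ProjCohom.nonempty_pullback_twistOver n (Spec (CommRingCat.of k)) 1 hω1
  refine ⟨n₀ + 1, n, i, n₀.succ_pos, hi, hib, ⟨?_⟩⟩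
  exact (OX.tensorUnitLeftIso _).symm ≪≫ GrTilde.tensorModComm _ _ ≪≫ φ ≪≫
    (Scheme.Modules.pullbackCongr (show i ≫ ω = j by simp [i])).symm.app _ ≪≫
    ((Scheme.Modules.pullbackComp i ω).app _).symm ≪≫ (Scheme.Modules.pullback i).mapIso ψ

end GrothLib.DecSh20
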