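import Groth.Agent.Lib.DecSh20.TorsionFree
import Groth.Agent.Lib.Hilb20.Positive
import Groth.Agent.Lib.Hilb20.Stable
import Groth.Agent.Lib.Hilb20.Morph
import Groth.Agent.Lib.Hilb20.Slope
import Groth.Agent.Lib.Snapper.Positive
import Groth.Agent.Lib.Kodaira.Cones
import Groth.Agent.Lib.CMReg.ProjSpace
import Groth.Agent.Lib.CMReg.Sequences
import Groth.Prelude.Def_DecSh2

/-!
# Multiplicities and Euler characteristics of coherent modules on a curve
-/

set_option autoImplicit false
set_option linter.style.haveILetI false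
set_option linter.unusedSectionVars false
set_option maxHeartbeats 1000000
set_option backward.isDefEq.respectTransparency false

universe u

open CategoryTheory CategoryTheory.Limits AlgebraicGeometry Polynomial TopologicalSpace
open GrothLib.Snapper (DimLT)
open GrothLib.Euler (tF)
open StabCat (alpha)

noncomputable section

namespace GrothLib.DecSh20

variable {X : Scheme.{u}}

/-- `F ⊗ L^0 ≅ F`. -/
def twistZeroIso (L F : X.Modules) : ShStab.twist X L F 0 ≅ F :=
  GrTilde.tensorModComm _ _ ≪≫ OX.tensorUnitLeftIso F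

theorem nonempty_twist_one (L F : X.Modules) : Nonempty (ShStab.twist X L F 1 ≅ CohB1.tensorMod F L) :=
  ⟨Ample.LineData.tensorModMapIso (Iso.refl F) (OX.tensorUnitLeftIso L)⟩

theorem nonempty_twist_twist (L F : X.Modules) (a b : ℕ) :
    Nonempty (ShStab.twist X L (ShStab.twist X L F a) b ≅ ShStab.twist X L F (a + b)) := by
  obtain ⟨e⟩ := Snapper.nonempty_tensorPow_add L a b
  exact ⟨OX.tensorAssoc F (CohB1.tensorPow L a) (CohB1.tensorPow L b) ≪≫
    Ample.LineData.tensorModMapIso (Iso.refl F) e.symm⟩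

theorem nonempty_twist_pow (L F : X.Modules) (r q : ℕ) :
    Nonempty (ShStab.twist X (CohB1.tensorPow L r) F q ≅ ShStab.twist X L F (r * q)) := by
  obtain ⟨e⟩ := Snapper.nonempty_tensorPow_mul L r q
  exact ⟨Ample.LineData.tensorModMapIso (Iso.refl F) e⟩

theorem isCoh_twist [IsLocallyNoetherian X] {L F : X.Modules} (hL : PicF.IsInvertible L) (hF : Coh.IsCoh F) (n : ℕ) :
    Coh.IsCoh (ShStab.twist X L F n) :=
  CMReg.isCoh_tensorMod hF (Ample.isInvertible_tensorPow hL n)

theorem mono_tF [IsLocallyNoetherian X] {M : X.Modules} (hM : PicF.IsInvertible M) {A B : X.Modules} (f : A ⟶ B)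
    [Mono f] : Mono ((tF M).map f) := by
  have hS : (ShortComplex.mk f (cokernel.π f) (cokernel.condition f)).ShortExact :=
    { exact := ShortComplex.exact_of_g_is_cokernel _ (cokernelIsCokernel _) }
  exact (OX.tensor_map_shortExact (OX.flat_of_isFinLocFree (Euler.isFinLocFree_of_isInvertible hM)) hS).mono_f

/-- A submodule of a torsion free module is torsion free. -/
theorem isTorsionFree_of_mono {E F : X.Modules} (ι : F ⟶ E) [Mono ι] (h : TorSh.IsTorsionFree E) :
    TorSh.IsTorsionFree F := fun x => by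
  haveI := h x
  exact Function.Injective.moduleIsTorsionFree (QCoh.stalkLin ι x) (QCoh.stalkLin_injective ι x) (map_smul _)

section Curve

variable (k : Type u) [Field k] [X.Over (Spec (CommRingCat.of k))]

/-- Every nonzero coherent submodule has Euler characteristic at most `C`. -/
def SubLe (F : X.Modules) (C : ℚ) : Prop :=
  ∀ (G : X.Modules) (ι : G ⟶ F), Mono ι → Coh.IsCoh G → ¬ IsZero G → (Curv2.euler k X G : ℚ) ≤ C

/-- Every nonzero coherent submodule has slope at most `μ`. -/
def SlopeLe (L F : X.Modules) (μ : ℚ) : Prop :=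
  ∀ (G : X.Modules) (ι : G ⟶ F), Mono ι → Coh.IsCoh G → ¬ IsZero G →
    (Curv2.euler k X G : ℚ) ≤ (DecSh.mult k X L G : ℚ) * μ

theorem mult_of_iso (L : X.Modules) {F G : X.Modules} (e : F ≅ G) : DecSh.mult k X L F = DecSh.mult k X L G := by
  rw [DecSh.mult, DecSh.mult, Euler.euler_of_iso k e,
    Euler.euler_of_iso k (Ample.LineData.tensorModMapIso e (Iso.refl L))]

variable [IsProper (X ↘ Spec (CommRingCat.of k))] {L : X.Modules}

attribute [local irreducible] Curv2.euler

theorem euler_zero {F : X.Modules} (h : IsZero F) : Curv2.euler k X F = 0 :=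
  Snapper.euler_eq_zero_of_isZero k h

theorem mult_zero {F : X.Modules} (h : IsZero F) : DecSh.mult k X L F = 0 := by
  have h' : IsZero (CohB1.tensorMod F L) := (tF L).map_isZero h
  rw [DecSh.mult, euler_zero k h, euler_zero k h', sub_zero]

variable (hd : topologicalKrullDim X ≤ 1)

include hd in
omit [IsProper (X ↘ Spec (CommRingCat.of k))] in
theorem dimLT_two (S : Set X) : DimLT S 2 :=
  Snapper.dimLT_of_dim_le (d := 1)
    ((Topology.IsInducing.subtypeVal.topologicalKrullDim_le).trans (by exact_mod_cast hd))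

include hd in
/-- The Hilbert polynomial of a coherent module on a curve. -/
theorem isHilbPoly_linear (hL : PicF.IsInvertible L) {F : X.Modules} (hF : Coh.IsCoh F) :
    ShStab.IsHilbPoly k X L F
      (C (DecSh.mult k X L F : ℚ) * Polynomial.X + C (Curv2.euler k X F : ℚ)) := by
  obtain ⟨P, hP, hdeg⟩ := Hilb20.exists_isHilbPoly_of_dimLT (k := k) hL hF (dimLT_two hd _)
  have hP1 : P.degree ≤ 1 := (degree_le_iff_coeff_zero _ _).2 fun m hm => coeff_eq_zero_of_degree_lt
    (lt_of_lt_of_le hdeg (by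
      have : 1 < m := by exact_mod_cast hm
      exact_mod_cast this))
  have h0 := hP 0
  have h1 := hP 1
  rw [Euler.euler_of_iso k (twistZeroIso L F)] at h0
  rw [Euler.euler_of_iso k (nonempty_twist_one L F).some] at h1
  rw [eq_X_add_C_of_degree_le_one hP1] at h0 h1 hP
  simp at h0 h1
  convert hP using 3
  · congr 1
    rw [DecSh.mult]
    push_cast
    linarith

theorem alpha_linear (a b : ℚ) : alpha 1 (C a * Polynomial.X + C b) = a := by
  simp [alpha]

theorem eval_linear (a b t : ℚ) : (C a * Polynomial.X + C b).eval t = a * t + b := by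
  simp

include hd in
theorem euler_twist (hL : PicF.IsInvertible L) {F : X.Modules} (hF : Coh.IsCoh F) (n : ℕ) :
    Curv2.euler k X (ShStab.twist X L F n) = Curv2.euler k X F + n * DecSh.mult k X L F := by
  have h := isHilbPoly_linear k hd hL hF n
  rw [eval_linear] at h
  have : (Curv2.euler k X (ShStab.twist X L F n) : ℚ) =
      ((Curv2.euler k X F + n * DecSh.mult k X L F : ℤ) : ℚ) := by
    rw [h]; push_cast; ring
  exact_mod_cast this

include hd in
theorem mult_twist (hL : PicF.IsInvertible L) {F : X.Modules} (hF : Coh.IsCoh F) (n : ℕ) :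
    DecSh.mult k X L (ShStab.twist X L F n) = DecSh.mult k X L F := by
  obtain ⟨e1⟩ := nonempty_twist_twist L F n 1
  obtain ⟨e2⟩ := nonempty_twist_one L (ShStab.twist X L F n)
  rw [DecSh.mult, Euler.euler_of_iso k (e2.symm ≪≫ e1), euler_twist k hd hL hF, euler_twist k hd hL hF]
  push_cast
  ring

include hd in
theorem mult_pow (hL : PicF.IsInvertible L) {F : X.Modules} (hF : Coh.IsCoh F) (r : ℕ) :
    DecSh.mult k X (CohB1.tensorPow L r) F = r * DecSh.mult k X L F := by
  rw [DecSh.mult, show CohB1.tensorMod F (CohB1.tensorPow L r) = ShStab.twist X L F r from rfl,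
    euler_twist k hd hL hF]
  ring

theorem euler_add {S : ShortComplex X.Modules} (hS : S.ShortExact) (h₁ : Coh.IsCoh S.X₁) (h₂ : Coh.IsCoh S.X₂)
    (h₃ : Coh.IsCoh S.X₃) : Curv2.euler k X S.X₂ = Curv2.euler k X S.X₁ + Curv2.euler k X S.X₃ :=
  Euler.euler_additive k hS h₁ h₂ h₃

theorem mult_add (hL : PicF.IsInvertible L) {S : ShortComplex X.Modules} (hS : S.ShortExact)
    (h₁ : Coh.IsCoh S.X₁) (h₂ : Coh.IsCoh S.X₂) (h₃ : Coh.IsCoh S.X₃) :
    DecSh.mult k X L S.X₂ = DecSh.mult k X L S.X₁ + DecSh.mult k X L S.X₃ := by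
  haveI := Euler.isNoetherian_of_proper (X := X) k
  have hlf := Euler.isFinLocFree_of_isInvertible hL
  have hT : (S.map (tF L)).ShortExact := OX.tensor_map_shortExact (OX.flat_of_isFinLocFree hlf) hS
  have hc : ∀ M : X.Modules, Coh.IsCoh M → Coh.IsCoh ((tF L).obj M) := fun M hM => Euler.isCoh_tF hM hlf
  have h : Curv2.euler k X ((tF L).obj S.X₂) =
      Curv2.euler k X ((tF L).obj S.X₁) + Curv2.euler k X ((tF L).obj S.X₃) :=
    euler_add k (S := S.map (tF L)) hT (hc S.X₁ h₁) (hc S.X₂ h₂) (hc S.X₃ h₃)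
  have h' := euler_add k hS h₁ h₂ h₃
  simp only [DecSh.mult]
  change Curv2.euler k X ((tF L).obj S.X₂) - _ =
    Curv2.euler k X ((tF L).obj S.X₁) - _ + (Curv2.euler k X ((tF L).obj S.X₃) - _)
  omega

theorem shortExact_cokernel {F E : X.Modules} (ι : F ⟶ E) [Mono ι] :
    (ShortComplex.mk ι (cokernel.π ι) (cokernel.condition ι)).ShortExact :=
  { exact := ShortComplex.exact_of_g_is_cokernel _ (cokernelIsCokernel _) }

include k in
theorem isCoh_cokernel {F E : X.Modules} (ι : F ⟶ E) (hF : Coh.IsCoh F) (hE : Coh.IsCoh E) :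
    Coh.IsCoh (cokernel ι) :=
  haveI := Euler.isNoetherian_of_proper (X := X) k
  QCoh.isCoh_cokernel ι hF hE

theorem euler_cokernel {F E : X.Modules} (ι : F ⟶ E) [Mono ι] (hF : Coh.IsCoh F) (hE : Coh.IsCoh E) :
    Curv2.euler k X E = Curv2.euler k X F + Curv2.euler k X (cokernel ι) :=
  euler_add k (shortExact_cokernel ι) hF hE (isCoh_cokernel k ι hF hE)

theorem mult_cokernel (hL : PicF.IsInvertible L) {F E : X.Modules} (ι : F ⟶ E) [Mono ι] (hF : Coh.IsCoh F)
    (hE : Coh.IsCoh E) : DecSh.mult k X L E = DecSh.mult k X L F + DecSh.mult k X L (cokernel ι) :=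
  mult_add k hL (shortExact_cokernel ι) hF hE (isCoh_cokernel k ι hF hE)

include hd in
theorem euler_le_h0 {F : X.Modules} (hF : Coh.IsCoh F) :
    Curv2.euler k X F ≤ (Module.finrank k (Coh.HH X F 0) : ℤ) := by
  haveI := hF.1
  rw [Euler.euler_eq_sub k hd F]
  omega

include hd in
theorem euler_eq_h0 {F : X.Modules} (hF : Coh.IsCoh F) (h : Subsingleton (Coh.HH X F 1)) :
    (Module.finrank k (Coh.HH X F 0) : ℤ) = Curv2.euler k X F := by
  haveI := hF.1
  rw [Euler.euler_eq_sub k hd F, Module.finrank_zero_of_subsingleton (M := Coh.HH X F 1)]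
  simp

section Ample

variable (hL : CohB1.IsAmple L)

include hd hL

theorem mult_nonneg {F : X.Modules} (hF : Coh.IsCoh F) : 0 ≤ DecSh.mult k X L F := by
  have h := Hilb20.alpha_nonneg hL hF (dimLT_two hd _) (isHilbPoly_linear k hd hL.1 hF)
  rw [alpha_linear] at h
  exact_mod_cast h

theorem mult_le_of_mono {F E : X.Modules} (ι : F ⟶ E) [Mono ι] (hF : Coh.IsCoh F) (hE : Coh.IsCoh E) :
    DecSh.mult k X L F ≤ DecSh.mult k X L E := by
  have := mult_nonneg k hd hL (isCoh_cokernel k ι hF hE)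
  have := mult_cokernel k hL.1 ι hF hE
  omega

theorem one_le_mult {E F : X.Modules} (hp : ShStab.IsPure X E 1) (ι : F ⟶ E) [Mono ι] (hF : Coh.IsCoh F)
    (hz : ¬ IsZero F) : 1 ≤ DecSh.mult k X L F := by
  have h := Hilb20.alpha_pos_of_pure hL hp ι hF hz (isHilbPoly_linear k hd hL.1 hF)
  rw [alpha_linear] at h
  exact_mod_cast h

theorem euler_nonneg_of_mult_eq_zero {F : X.Modules} (hF : Coh.IsCoh F) (h : DecSh.mult k X L F = 0) :
    0 ≤ Curv2.euler k X F ∧ (¬ IsZero F → 0 < Curv2.euler k X F) := by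
  have hP := isHilbPoly_linear k hd hL.1 hF
  have h1 : DimLT (CohB1.support F) 1 :=
    Hilb20.dimLT_of_alpha_eq_zero hL hF (dimLT_two hd _) hP (by rw [alpha_linear, h]; simp)
  constructor
  · haveI := hF.1
    have hd0 : topologicalKrullDim (CohB1.support F) ≤ 0 := by
      exact_mod_cast Snapper.dim_le_of_dimLT (QCoh.isClosed_support_of_isCoh hF) h1
    rw [← euler_eq_h0 k hd hF (Euler.subsingleton_HH_of_support_dim_le_zero k hF hd0 1 le_rfl)]
    positivity
  · intro hz
    obtain ⟨N, hN⟩ := Hilb20.eval_pos hL hF hz (dimLT_two hd _) hP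
    have := hN N le_rfl
    rw [eval_linear, h] at this
    simp at this
    exact_mod_cast this

theorem euler_le_of_mult_eq {F E : X.Modules} (ι : F ⟶ E) [Mono ι] (hF : Coh.IsCoh F) (hE : Coh.IsCoh E)
    (h : DecSh.mult k X L F = DecSh.mult k X L E) : Curv2.euler k X F ≤ Curv2.euler k X E := by
  have h1 := mult_cokernel k hL.1 ι hF hE
  have h2 := (euler_nonneg_of_mult_eq_zero k hd hL (isCoh_cokernel k ι hF hE) (by omega)).1
  have h3 := euler_cokernel k ι hF hE
  omega

theorem slopeLe_of_subLe {F : X.Modules} (hp : ShStab.IsPure X F 1) {C : ℚ} (h : SubLe k F C) :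
    SlopeLe k L F (max C 0) := by
  intro G ι hι hG hz
  haveI := hι
  have h1 : (1 : ℚ) ≤ (DecSh.mult k X L G : ℚ) := by exact_mod_cast one_le_mult k hd hL hp ι hG hz
  refine (h G ι hι hG hz).trans ((le_max_left C 0).trans ?_)
  nlinarith [le_max_right C 0]

end Ample

end Curve

end GrothLib.DecSh20
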