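import Groth.Agent.Lib.DecSh20.Basic

/-!
# Twists and quotients of least slope
-/

set_option autoImplicit false
set_option linter.style.haveILetI false
set_option linter.unusedSectionVars false
set_option maxHeartbeats 1000000
set_option backward.isDefEq.respectTransparency false

universe u

open CategoryTheory CategoryTheory.Limits AlgebraicGeometry TopologicalSpace
open GrothLib.Snapper (DimLT)
open GrothLib.Euler (tF)

noncomputable section

namespace GrothLib.DecSh20

variable {X : Scheme.{u}} (k : Type u) [Field k] [X.Over (Spec (CommRingCat.of k))]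
  [IsProper (X ↘ Spec (CommRingCat.of k))] {L : X.Modules}

attribute [local irreducible] Curv2.euler

include k in
theorem isCoh_kernel {F Q : X.Modules} (p : F ⟶ Q) (hF : Coh.IsCoh F) (hQ : Coh.IsCoh Q) :
    Coh.IsCoh (kernel p) :=
  haveI := Euler.isNoetherian_of_proper (X := X) k
  QCoh.isCoh_kernel p hF hQ

include k in
theorem shortExact_kernel {F Q : X.Modules} (p : F ⟶ Q) [Epi p] :
    (ShortComplex.mk (kernel.ι p) p (kernel.condition p)).ShortExact :=
  { exact := ShortComplex.exact_of_f_is_kernel _ (kernelIsKernel p) }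

theorem euler_kernel {F Q : X.Modules} (p : F ⟶ Q) [Epi p] (hF : Coh.IsCoh F) (hQ : Coh.IsCoh Q) :
    Curv2.euler k X F = Curv2.euler k X (kernel p) + Curv2.euler k X Q :=
  euler_add k (S := ShortComplex.mk (kernel.ι p) p (kernel.condition p)) (shortExact_kernel k p)
    (isCoh_kernel k p hF hQ) hF hQ

theorem mult_kernel (hL : PicF.IsInvertible L) {F Q : X.Modules} (p : F ⟶ Q) [Epi p] (hF : Coh.IsCoh F)
    (hQ : Coh.IsCoh Q) :
    DecSh.mult k X L F = DecSh.mult k X L (kernel p) + DecSh.mult k X L Q :=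
  mult_add k hL (S := ShortComplex.mk (kernel.ι p) p (kernel.condition p)) (shortExact_kernel k p)
    (isCoh_kernel k p hF hQ) hF hQ

theorem finrank_h0_mono {A B : X.Modules} (ι : A ⟶ B) [Mono ι] (hB : Coh.IsCoh B) :
    Module.finrank k (Coh.HH X A 0) ≤ Module.finrank k (Coh.HH X B 0) := by
  haveI := Euler.finiteDimensional_HH k hB 0
  exact LinearMap.finrank_le_finrank_of_injective
    (Euler.hhMap_zero_injective (A := k) (S := ShortComplex.mk ι (cokernel.π ι) (cokernel.condition ι))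
      (shortExact_cokernel (X := X) ι))

theorem finrank_h0_le_add {S : ShortComplex X.Modules} (hS : S.ShortExact) (h₁ : Coh.IsCoh S.X₁)
    (h₂ : Coh.IsCoh S.X₂) (h₃ : Coh.IsCoh S.X₃) :
    Module.finrank k (Coh.HH X S.X₂ 0) ≤ Module.finrank k (Coh.HH X S.X₁ 0) + Module.finrank k (Coh.HH X S.X₃ 0) := by
  haveI := Euler.finiteDimensional_HH k h₁ 0
  haveI := Euler.finiteDimensional_HH k h₂ 0
  haveI := Euler.finiteDimensional_HH k h₃ 0
  rw [Euler.finrank_eq_add_of_exact (Cohom.exact₂ (A := k) hS 0)]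
  exact Nat.add_le_add (LinearMap.finrank_range_le _) (Submodule.finrank_le _)

theorem subLe_of_mono {E F : X.Modules} (ι : F ⟶ E) [Mono ι] {C : ℚ} (h : SubLe k E C) : SubLe k F C :=
  fun G j hj hG hz => haveI := hj; h G (j ≫ ι) inferInstance hG hz

theorem slopeLe_of_mono {E F : X.Modules} (ι : F ⟶ E) [Mono ι] {μ : ℚ} (h : SlopeLe k L E μ) :
    SlopeLe k L F μ :=
  fun G j hj hG hz => haveI := hj; h G (j ≫ ι) inferInstance hG hz

omit [X.Over (Spec (CommRingCat.of k))] [IsProper (X ↘ Spec (CommRingCat.of k))] in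
theorem isPure_of_mono {E F : X.Modules} (ι : F ⟶ E) [Mono ι] (h : ShStab.IsPure X E 1) : ShStab.IsPure X F 1 :=
  fun G j hj hG hz => haveI := hj; h G (j ≫ ι) inferInstance hG hz

include k in
/-- Submodules of a twist are twists of submodules. -/
theorem exists_untwist (hL : PicF.IsInvertible L) {F G : X.Modules} (s : ℕ) (ι : G ⟶ ShStab.twist X L F s) [Mono ι]
    (hG : Coh.IsCoh G) :
    ∃ (G' : X.Modules) (ι' : G' ⟶ F), Mono ι' ∧ Coh.IsCoh G' ∧ Nonempty (G ≅ ShStab.twist X L G' s) ∧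
      CohB1.support G' ⊆ CohB1.support G := by
  haveI := Euler.isNoetherian_of_proper (X := X) k
  have hs := Ample.isInvertible_tensorPow hL s
  obtain ⟨T, hT, ⟨e⟩⟩ := Kodaira.exists_inverse hs
  haveI := mono_tF hT ι
  let a : CohB1.tensorMod (CohB1.tensorMod F (CohB1.tensorPow L s)) T ≅ F :=
    OX.tensorAssoc F (CohB1.tensorPow L s) T ≪≫
      Ample.LineData.tensorModMapIso (Iso.refl F) (GrTilde.tensorModComm _ _ ≪≫ e) ≪≫
        GrTilde.tensorModComm _ _ ≪≫ OX.tensorUnitLeftIso F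
  refine ⟨CohB1.tensorMod G T, (tF T).map ι ≫ a.hom, mono_comp _ _, CMReg.isCoh_tensorMod hG hT, ⟨?_⟩,
    CMReg.support_tensorMod_subset G T hT⟩
  exact (OX.tensorUnitLeftIso G).symm ≪≫ GrTilde.tensorModComm _ _ ≪≫
    Ample.LineData.tensorModMapIso (Iso.refl G) e.symm ≪≫ (OX.tensorAssoc G T (CohB1.tensorPow L s)).symm

variable (hd : topologicalKrullDim X ≤ 1)
include hd

include k in
theorem isPure_twist (hL : PicF.IsInvertible L) {F : X.Modules} (h : ShStab.IsPure X F 1) (s : ℕ) :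
    ShStab.IsPure X (ShStab.twist X L F s) 1 := by
  haveI := Euler.isNoetherian_of_proper (X := X) k
  intro G ι hι hG hz
  haveI := hι
  obtain ⟨G', ι', hι', hG', ⟨e⟩, hsupp⟩ := exists_untwist k hL s ι hG
  have hz' : ¬ IsZero G' := fun h0 => hz ((IsZero.of_iso ((tF _).map_isZero h0) e))
  refine le_antisymm ?_ ?_
  · exact (Topology.IsInducing.subtypeVal.topologicalKrullDim_le).trans (by exact_mod_cast hd)
  · rw [← h G' ι' hι' hG' hz']
    exact Topology.IsInducing.topologicalKrullDim_le (f := Set.inclusion hsupp)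
      (Topology.IsEmbedding.inclusion hsupp).isInducing

theorem slopeLe_twist (hL : PicF.IsInvertible L) {F : X.Modules} {μ : ℚ} (h : SlopeLe k L F μ) (s : ℕ) :
    SlopeLe k L (ShStab.twist X L F s) (μ + s) := by
  intro G ι hι hG hz
  haveI := hι
  obtain ⟨G', ι', hι', hG', ⟨e⟩, -⟩ := exists_untwist k hL s ι hG
  have hz' : ¬ IsZero G' := fun h0 => hz ((IsZero.of_iso ((tF _).map_isZero h0) e))
  have := h G' ι' hι' hG' hz'
  rw [Euler.euler_of_iso k e, mult_of_iso k L e, euler_twist k hd hL hG', mult_twist k hd hL hG']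
  push_cast
  linarith

theorem subLe_twist (hL : CohB1.IsAmple L) {F : X.Modules} (hF : Coh.IsCoh F) {C : ℚ} (h : SubLe k F C) (s : ℕ) :
    SubLe k (ShStab.twist X L F s) (C + s * DecSh.mult k X L F) := by
  intro G ι hι hG hz
  haveI := hι
  obtain ⟨G', ι', hι', hG', ⟨e⟩, -⟩ := exists_untwist k hL.1 s ι hG
  haveI := hι'
  have hz' : ¬ IsZero G' := fun h0 => hz ((IsZero.of_iso ((tF _).map_isZero h0) e))
  have h1 := h G' ι' hι' hG' hz'
  have h2 : (DecSh.mult k X L G' : ℚ) ≤ DecSh.mult k X L F := by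
    exact_mod_cast mult_le_of_mono k hd hL ι' hG' hF
  rw [Euler.euler_of_iso k e, euler_twist k hd hL.1 hG']
  push_cast
  nlinarith [(Nat.cast_nonneg s : (0 : ℚ) ≤ s)]

/-- A quotient of least slope: it is pure and semistable. -/
theorem exists_min_quotient (hL : CohB1.IsAmple L) {F : X.Modules} (hF : Coh.IsCoh F)
    (h1 : 1 ≤ DecSh.mult k X L F) :
    ∃ (Q : X.Modules) (p : F ⟶ Q), Epi p ∧ Coh.IsCoh Q ∧ 1 ≤ DecSh.mult k X L Q ∧ ShStab.IsPure X Q 1 ∧
      SlopeLe k L Q ((Curv2.euler k X Q : ℚ) / DecSh.mult k X L Q) ∧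
      ∀ (Q' : X.Modules) (p' : F ⟶ Q'), Epi p' → Coh.IsCoh Q' → 1 ≤ DecSh.mult k X L Q' →
        (Curv2.euler k X Q : ℚ) / DecSh.mult k X L Q ≤ (Curv2.euler k X Q' : ℚ) / DecSh.mult k X L Q' := by
  classical
  let A := DecSh.mult k X L F
  let N : ℤ := (A.toNat.factorial : ℕ)
  have hN : 0 < N := Int.natCast_pos.2 A.toNat.factorial_pos
  have hle : ∀ (Q : X.Modules) (p : F ⟶ Q), Epi p → Coh.IsCoh Q → DecSh.mult k X L Q ≤ A ∧
      Curv2.euler k X F - (Module.finrank k (Coh.HH X F 0) : ℤ) ≤ Curv2.euler k X Q := by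
    intro Q p hp hQ
    haveI := hp
    have hK := isCoh_kernel k p hF hQ
    have e1 := euler_kernel k p hF hQ
    have e2 := mult_kernel k hL.1 p hF hQ
    have e3 := mult_nonneg k hd hL hK
    have e4 := euler_le_h0 k hd hK
    have e5 := finrank_h0_mono k (kernel.ι p) hF
    constructor <;> omega
  let P : ℤ → Prop := fun z => ∃ (Q : X.Modules) (p : F ⟶ Q), Epi p ∧ Coh.IsCoh Q ∧ 1 ≤ DecSh.mult k X L Q ∧
    (z : ℚ) = (N : ℚ) * Curv2.euler k X Q / DecSh.mult k X L Q
  have hint : ∀ (Q : X.Modules) (p : F ⟶ Q), Epi p → Coh.IsCoh Q → 1 ≤ DecSh.mult k X L Q →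
      ∃ z : ℤ, P z ∧ (z : ℚ) = (N : ℚ) * Curv2.euler k X Q / DecSh.mult k X L Q := by
    intro Q p hp hQ hα
    obtain ⟨d, hd'⟩ : DecSh.mult k X L Q ∣ N := by
      have := Nat.dvd_factorial (m := (DecSh.mult k X L Q).toNat) (n := A.toNat) (by omega)
        (by have := (hle Q p hp hQ).1; omega)
      have h' : ((DecSh.mult k X L Q).toNat : ℤ) ∣ N := Int.natCast_dvd_natCast.2 this
      rwa [Int.toNat_of_nonneg (by omega)] at h'
    have hz : ((d * Curv2.euler k X Q : ℤ) : ℚ) = (N : ℚ) * Curv2.euler k X Q / DecSh.mult k X L Q := by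
      rw [hd']
      have : (DecSh.mult k X L Q : ℚ) ≠ 0 := by exact_mod_cast (show DecSh.mult k X L Q ≠ 0 by omega)
      field_simp
      push_cast
      ring
    exact ⟨_, ⟨Q, p, hp, hQ, hα, hz⟩, hz⟩
  have hbdd : ∃ b : ℤ, ∀ z : ℤ, P z → b ≤ z := by
    refine ⟨N * min (Curv2.euler k X F - (Module.finrank k (Coh.HH X F 0) : ℤ)) 0, ?_⟩
    rintro z ⟨Q, p, hp, hQ, hα, hz⟩
    have h2 := (hle Q p hp hQ).2
    generalize hB : Curv2.euler k X F - (Module.finrank k (Coh.HH X F 0) : ℤ) = B at h2 ⊢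
    have hα' : (1 : ℚ) ≤ DecSh.mult k X L Q := by exact_mod_cast hα
    have hB' : ((min B 0 : ℤ) : ℚ) ≤ Curv2.euler k X Q := by exact_mod_cast (min_le_left B 0).trans h2
    have hB0 : ((min B 0 : ℤ) : ℚ) ≤ 0 := by exact_mod_cast min_le_right B 0
    have : ((N * min B 0 : ℤ) : ℚ) ≤ (z : ℚ) := by
      rw [hz, le_div_iff₀ (by linarith), Int.cast_mul]
      have hN' : (0 : ℚ) < N := by exact_mod_cast hN
      have : ((min B 0 : ℤ) : ℚ) * DecSh.mult k X L Q ≤ Curv2.euler k X Q := by nlinarith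
      nlinarith
    exact_mod_cast this
  obtain ⟨z₀, -⟩ := hint F (𝟙 F) inferInstance hF h1
  obtain ⟨lb, ⟨Q, p, hp, hQ, hα, hz⟩, hmin⟩ := Int.exists_least_of_bdd hbdd
    ⟨_, (hint F (𝟙 F) inferInstance hF h1).choose_spec.1⟩
  haveI := hp
  let μ : ℚ := (Curv2.euler k X Q : ℚ) / DecSh.mult k X L Q
  have hslope : ∀ (Q' : X.Modules) (p' : F ⟶ Q'), Epi p' → Coh.IsCoh Q' → 1 ≤ DecSh.mult k X L Q' →
      μ ≤ (Curv2.euler k X Q' : ℚ) / DecSh.mult k X L Q' := by
    intro Q' p' hp' hQ' hα'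
    obtain ⟨z', hz', he⟩ := hint Q' p' hp' hQ' hα'
    have h : (lb : ℚ) ≤ z' := by exact_mod_cast hmin z' hz'
    rw [hz, he, mul_div_assoc, mul_div_assoc] at h
    exact le_of_mul_le_mul_left h (by exact_mod_cast hN)
  have hμ : (DecSh.mult k X L Q : ℚ) * μ = Curv2.euler k X Q :=
    mul_div_cancel₀ _ (by exact_mod_cast (show DecSh.mult k X L Q ≠ 0 by omega))
  have hsub : SlopeLe k L Q μ := by
    intro G ι hι hG hG0
    haveI := hι
    have hC := isCoh_cokernel k ι hG hQ
    have e1 := euler_cokernel k ι hG hQ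
    have e2 := mult_cokernel k hL.1 ι hG hQ
    have e3 := mult_nonneg k hd hL hC
    have e1' : (Curv2.euler k X Q : ℚ) = Curv2.euler k X G + Curv2.euler k X (cokernel ι) := by exact_mod_cast e1
    have e2' : (DecSh.mult k X L Q : ℚ) = DecSh.mult k X L G + DecSh.mult k X L (cokernel ι) := by exact_mod_cast e2
    rw [e1', e2'] at hμ
    rcases eq_or_lt_of_le e3 with h0 | h0
    · have h4 : (0 : ℚ) ≤ Curv2.euler k X (cokernel ι) := by
        exact_mod_cast (euler_nonneg_of_mult_eq_zero k hd hL hC h0.symm).1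
      rw [← h0] at hμ
      simp at hμ
      linarith
    · have h4 := hslope (cokernel ι) (p ≫ cokernel.π ι) (epi_comp _ _) hC h0
      rw [le_div_iff₀ (by exact_mod_cast h0)] at h4
      linarith
  refine ⟨Q, p, hp, hQ, hα, ?_, hsub, hslope⟩
  intro G ι hι hG hG0
  haveI := hι
  refine le_antisymm ((Topology.IsInducing.subtypeVal.topologicalKrullDim_le).trans (by exact_mod_cast hd)) ?_
  by_contra hlt
  have hd0 : DimLT (CohB1.support G) 1 := by
    intro l hl
    by_contra hl'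
    push Not at hl'
    exact hlt (le_trans (by exact_mod_cast hl') (Snapper.length_le_dim _ l hl))
  have hG' : DecSh.mult k X L G = 0 := by
    have := Hilb20.alpha_eq_zero hL hG hd0 (isHilbPoly_linear k hd hL.1 hG)
    rw [alpha_linear] at this
    exact_mod_cast this
  have h5 := hsub G ι hι hG hG0
  rw [hG'] at h5
  simp at h5
  have := (euler_nonneg_of_mult_eq_zero k hd hL hG hG').2 hG0
  have : (0 : ℚ) < Curv2.euler k X G := by exact_mod_cast this
  linarith

end GrothLib.DecSh20
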