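import Groth.Agent.Lib.DecSh20.Basic
import Groth.Agent.Lib.Hilb20.Reflexive
import Groth.Agent.Lib.FacDiv.Invertible
import Groth.Agent.Lib.RegUFD.Basic
import Groth.Agent.Lib.Kodaira.Cones
import Groth.Agent.Lib.HodgeIndex.EffCurve

/-!
# Rank one submodules on a surface whose Picard group is generated by one class
-/

set_option autoImplicit false
set_option linter.style.haveILetI false
set_option linter.unusedSectionVars false
set_option maxHeartbeats 1000000
set_option backward.isDefEq.respectTransparency.types false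

universe u

open CategoryTheory CategoryTheory.Limits AlgebraicGeometry Polynomial
open GrothLib.Snapper (DimLT)
open GrothLib.Ref1 (sp hη Gen)
open GrothLib.Hilb20 (alpha_add)
open StabCat (alpha)

noncomputable section

namespace GrothLib.DecSh20

variable {X : Scheme.{u}} {k : Type u} [Field k] [X.Over (Spec (CommRingCat.of k))]
  [IsProper (X ↘ Spec (CommRingCat.of k))]

attribute [local irreducible] Curv2.euler

/-- Shifting a quadratic polynomial. -/
theorem alpha_comp_shift {P : ℚ[X]} (h : P.degree < (3 : ℕ)) (c : ℚ) :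
    alpha 2 (P.comp (Polynomial.X + C c)) = alpha 2 P ∧
      alpha 1 (P.comp (Polynomial.X + C c)) = alpha 1 P + c * alpha 2 P := by
  have hP : P = C (P.coeff 2) * Polynomial.X ^ 2 + C (P.coeff 1) * Polynomial.X + C (P.coeff 0) := by
    ext n
    rcases lt_or_ge n 3 with hn | hn
    · interval_cases n <;> simp [coeff_X, coeff_one]
    · rw [coeff_eq_zero_of_degree_lt (h.trans_le (by exact_mod_cast hn))]
      obtain ⟨m, rfl⟩ : ∃ m, n = m + 3 := ⟨n - 3, by omega⟩
      simp [coeff_X, coeff_C]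
  obtain ⟨a, b, e, rfl⟩ : ∃ a b e : ℚ, P = C a * Polynomial.X ^ 2 + C b * Polynomial.X + C e := ⟨_, _, _, hP⟩
  have hc : (C a * Polynomial.X ^ 2 + C b * Polynomial.X + C e).comp (Polynomial.X + C c) =
      C a * Polynomial.X ^ 2 + C (2 * a * c + b) * Polynomial.X + C (a * c ^ 2 + b * c + e) := by
    simp only [add_comp, mul_comp, C_comp, X_comp, pow_comp, map_add, map_mul, map_pow, map_ofNat]
    ring
  rw [hc]
  constructor
  · simp [alpha, coeff_X, coeff_C, -map_pow, ← map_pow]
  · simp [alpha, coeff_X, coeff_C, -map_pow, ← map_pow]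
    ring

theorem isHilbPoly_twist {L E : X.Modules} {P : ℚ[X]} (hP : ShStab.IsHilbPoly k X L E P) (j : ℕ) :
    ShStab.IsHilbPoly k X L (ShStab.twist X L E j) (P.comp (Polynomial.X + C (j : ℚ))) := fun m => by
  obtain ⟨e⟩ := nonempty_twist_twist L E j m
  rw [Euler.euler_of_iso k e, hP (j + m), eval_comp]
  push_cast
  simp [add_comm]

variable [IsIntegral X]

include k in
/-- Proper closed subsets of a surface are at most curves. -/
theorem dimLT_two_of_notMem (hdim : topologicalKrullDim X = ((2 : ℕ) : WithBot ℕ∞)) {S : Set X}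
    (h : genericPoint X ∉ S) : DimLT S 2 :=
  (Snapper.dimLT_of_notMem (Kleiman.isTop_genericPoint hdim).dimLT Set.inter_subset_left
    (T := closure {genericPoint X} ∩ S) fun h' => h h'.2).mono fun x hx =>
      ⟨by rw [show closure ({genericPoint X} : Set X) = Set.univ from (genericPoint_spec X).def]; trivial, hx⟩

include k in
theorem isPure_of_torsionFree_surface (hdim : topologicalKrullDim X = ((2 : ℕ) : WithBot ℕ∞)) {E : X.Modules}
    (hE : Coh.IsCoh E) (htf : TorSh.IsTorsionFree E) : ShStab.IsPure X E 2 := by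
  haveI := hE.1
  exact Hilb20.isPure_of_sp_injective (fun x => by haveI := htf x; exact Ref1.sp_injective E x) hdim

include k in
theorem isPure_of_isInvertible (hN : Pi1.IsNormalScheme X)
    (hdim : topologicalKrullDim X = ((2 : ℕ) : WithBot ℕ∞)) {M : X.Modules} (hM : PicF.IsInvertible M) :
    ShStab.IsPure X M 2 :=
  haveI := Euler.isNoetherian_of_proper (X := X) k
  Hilb20.isPure_of_sp_injective (Ref1.injective_sp_of_isRef1 hN (FacDiv.isRef1_of_isInvertible hM)) hdim

include k in
/-- A nonzero submodule of an invertible module on a surface has full rank. -/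
theorem rankOne_mono (hN : Pi1.IsNormalScheme X) (hdim : topologicalKrullDim X = ((2 : ℕ) : WithBot ℕ∞))
    {G M : X.Modules} (hM : PicF.IsInvertible M) (f : G ⟶ M) [Mono f] (hG : Coh.IsCoh G) (hG0 : ¬ IsZero G) :
    Function.Bijective (RefHull.stalkMapₗ f (genericPoint X)) ∧ DimLT (CohB1.support (cokernel f)) 2 := by
  haveI := Euler.isNoetherian_of_proper (X := X) k
  have hp := isPure_of_isInvertible (k := k) hN hdim hM
  have hη : genericPoint X ∈ CohB1.support G := by
    by_contra h
    exact Hilb20.isPure_not_dimLT hp f hG hG0 (dimLT_two_of_notMem (k := k) hdim h)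
  have hinj : Function.Injective (RefHull.stalkMapₗ f (genericPoint X)) := QCoh.stalkLin_injective f _
  have hsurj : Function.Surjective (RefHull.stalkMapₗ f (genericPoint X)) := by
    haveI : Nontrivial (G.presheaf.stalk (genericPoint X)) := not_subsingleton_iff_nontrivial.1 hη
    obtain ⟨v, hv⟩ := exists_ne (0 : G.presheaf.stalk (genericPoint X))
    obtain ⟨e, he⟩ := Ref1.exists_gen_of_isInvertible hM (genericPoint X)
    intro w
    obtain ⟨c, hc⟩ := (Ref1.gen_of_ne_zero he ((map_ne_zero_iff _ hinj).2 hv)).2 w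
    exact ⟨c • v, by rw [map_smul]; exact hc⟩
  exact ⟨⟨hinj, hsurj⟩,
    dimLT_two_of_notMem (k := k) hdim (QCoh.notMem_support_cokernel_of_surjective f hsurj)⟩

theorem alpha_rankOne (hN : Pi1.IsNormalScheme X) (hdim : topologicalKrullDim X = ((2 : ℕ) : WithBot ℕ∞))
    {L : X.Modules} (hL : CohB1.IsAmple L) {G M : X.Modules} (hM : PicF.IsInvertible M) (f : G ⟶ M) [Mono f]
    (hG : Coh.IsCoh G) (hG0 : ¬ IsZero G) {pG pM : ℚ[X]} (hpG : ShStab.IsHilbPoly k X L G pG)
    (hpM : ShStab.IsHilbPoly k X L M pM) :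
    alpha 2 pG = alpha 2 pM ∧ alpha 1 pG ≤ alpha 1 pM ∧
      (alpha 1 pG = alpha 1 pM → DimLT (CohB1.support (cokernel f)) 1) := by
  haveI := Euler.isNoetherian_of_proper (X := X) k
  obtain ⟨hC, -, pC, hpC, e⟩ := Hilb20.exists_quotient_poly hL hG (Euler.isCoh_of_isInvertible hM) f hpG hpM
  have hd := (rankOne_mono (k := k) hN hdim hM f hG hG0).2
  have h2 := Hilb20.alpha_eq_zero hL hC hd hpC
  have h1 := Hilb20.alpha_nonneg (d := 1) hL hC hd hpC
  refine ⟨by rw [e, alpha_add, h2, add_zero], by rw [e, alpha_add]; linarith, fun h => ?_⟩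
  rw [e, alpha_add] at h
  exact Hilb20.dimLT_of_alpha_eq_zero hL hC hd hpC (by linarith)

omit [X.Over (Spec (CommRingCat.of k))] [IsProper (X ↘ Spec (CommRingCat.of k))] in
theorem dim_eq_one_of_le_one {x : X} (h : ringKrullDim (X.presheaf.stalk x) ≤ 1) (hx : x ≠ genericPoint X) :
    ringKrullDim (X.presheaf.stalk x) = 1 := by
  rw [ringKrullDim_stalk_eq_coheight] at h ⊢
  refine le_antisymm h (WithBot.coe_le_coe.2 (le_trans le_add_self (Order.coheight_add_one_le
    (lt_of_le_not_ge (hη x) fun h' => hx ?_))))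
  exact (Specializes.antisymm (show genericPoint X ⤳ x from hη x) h').eq.symm

omit [IsIntegral X] in
include k in
/-- A set of points of codimension two on a surface is zero-dimensional. -/
theorem dimLT_one_of_forall_two_le (hdim : topologicalKrullDim X = ((2 : ℕ) : WithBot ℕ∞)) {S : Set X}
    (h : ∀ x ∈ S, (2 : WithBot ℕ∞) ≤ ringKrullDim (X.presheaf.stalk x)) : DimLT S 1 := fun l hl => by
  have h2 := h _ (hl (Fin.last _))
  rw [ringKrullDim_stalk_eq_coheight] at h2
  obtain ⟨p, hp, hlen⟩ := Order.exists_series_of_le_coheight (n := 2) _ (WithBot.coe_le_coe.1 h2)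
  have := Kleiman.dimLT_univ hdim.le (l.smash p hp.symm) fun i => Set.mem_univ _
  rw [RelSeries.smash_length, hlen] at this
  omega

variable [Smooth (X ↘ Spec (CommRingCat.of k))] [PicGrp.Law X]

/-- An invertible module has the numerical invariants of an integral power of the generator. -/
theorem alpha_invertible (hdim : topologicalKrullDim X = ((2 : ℕ) : WithBot ℕ∞)) {L : X.Modules}
    (hL : CohB1.IsAmple L) (hLi : PicF.IsInvertible L)
    (hgen : ∀ c : PicLoc.PicSet X, ∃ n : ℤ, c = PicGrp.cls L hLi ^ n) {G : X.Modules} (hG : PicF.IsInvertible G)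
    {pG pO : ℚ[X]} (hpG : ShStab.IsHilbPoly k X L G pG)
    (hpO : ShStab.IsHilbPoly k X L (Coh.structureModule X) pO) :
    alpha 2 pG = alpha 2 pO ∧ ∃ m : ℤ, alpha 1 pG = alpha 1 pO + (m : ℚ) * alpha 2 pO := by
  haveI := Euler.isNoetherian_of_proper (X := X) k
  have hu : DimLT (Set.univ : Set X) 3 := Kleiman.dimLT_univ hdim.le
  have hdeg : ∀ {E : X.Modules} {P : ℚ[X]}, Coh.IsCoh E → ShStab.IsHilbPoly k X L E P → P.degree < (3 : ℕ) :=
    fun hE hP => Hilb20.degree_lt_of_dimLT hLi hE (hu.mono (Set.subset_univ _)) hP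
  obtain ⟨n, hn⟩ := hgen (PicGrp.cls G hG)
  rcases n with j | j
  · have h : PicGrp.cls G hG =
        PicGrp.cls (CohB1.tensorPow L j) (Ample.isInvertible_tensorPow hLi j) := by
      rw [Kodaira.cls_pow hLi, hn, Int.ofNat_eq_natCast, zpow_natCast]
    obtain ⟨e⟩ := (PicGrp.cls_eq_cls_iff _ _).1 h
    have hp := Hilb20.isHilbPoly_congr ((OX.tensorUnitLeftIso (CohB1.tensorPow L j)) ≪≫ e.symm) (isHilbPoly_twist hpO j)
    obtain ⟨a2, a1⟩ := alpha_comp_shift (hdeg (Kleiman.isCoh_O k) hpO) (j : ℚ)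
    rw [Hilb20.isHilbPoly_unique hpG hp]
    exact ⟨a2, j, by rw [a1]; push_cast; rfl⟩
  · have hT := Ample.isInvertible_tensorPow hLi (j + 1)
    have h : PicGrp.cls G hG * PicGrp.cls (CohB1.tensorPow L (j + 1)) hT = 1 := by
      rw [Kodaira.cls_pow hLi, hn, zpow_negSucc, inv_mul_cancel]
    obtain ⟨e⟩ := (PicGrp.cls_mul_cls_eq_one_iff hG hT).1 h
    have hp := Hilb20.isHilbPoly_congr e (isHilbPoly_twist hpG (j + 1))
    obtain ⟨a2, a1⟩ := alpha_comp_shift (hdeg (Euler.isCoh_of_isInvertible hG) hpG) ((j + 1 : ℕ) : ℚ)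
    rw [← Hilb20.isHilbPoly_unique hpO hp] at a1 a2
    refine ⟨a2.symm, Int.negSucc j, ?_⟩
    rw [a1, a2, Int.cast_negSucc]
    push_cast
    ring

/-- A nonzero submodule of an invertible module has the invariants of an integral power, up to points. -/
theorem alpha_sub (hdim : topologicalKrullDim X = ((2 : ℕ) : WithBot ℕ∞)) {L : X.Modules}
    (hL : CohB1.IsAmple L) (hLi : PicF.IsInvertible L)
    (hgen : ∀ c : PicLoc.PicSet X, ∃ n : ℤ, c = PicGrp.cls L hLi ^ n) {G M : X.Modules} (hM : PicF.IsInvertible M)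
    (f : G ⟶ M) [Mono f] (hG : Coh.IsCoh G) (hG0 : ¬ IsZero G)
    {pG pO : ℚ[X]} (hpG : ShStab.IsHilbPoly k X L G pG)
    (hpO : ShStab.IsHilbPoly k X L (Coh.structureModule X) pO) :
    ∃ m : ℤ, alpha 1 pG = alpha 1 pO + (m : ℚ) * alpha 2 pO := by
  haveI := Euler.isNoetherian_of_proper (X := X) k
  haveI := hG.1
  have hN := Hilb20.isNormalScheme_of_smooth (X := X) k
  have hrel := HomSh.hasRel_of_isCoh hG
  haveI htf : ∀ x : X, Module.IsTorsionFree (X.presheaf.stalk x) (G.presheaf.stalk x) := fun x => by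
    haveI : IsDomain (X.presheaf.stalk x) := (hN x).1
    have hR := FacDiv.isRef1_of_isInvertible hM
    haveI : Module.IsReflexive (X.presheaf.stalk x) (M.presheaf.stalk x) :=
      (HomSh.isReflexive_iff (HomSh.hasRel_of_isCoh hR.1)).1 hR.2.1 x
    haveI := Ref1.isTorsionFree_of_isReflexive (X.presheaf.stalk x) (M.presheaf.stalk x)
    exact Function.Injective.moduleIsTorsionFree (RefHull.stalkMapₗ f x) (QCoh.stalkLin_injective f x) (map_smul _)
  obtain ⟨e, he⟩ := Ref1.exists_gen_of_isInvertible hM (genericPoint X)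
  obtain ⟨⟨v, hv⟩, hb⟩ : (∃ v, RefHull.stalkMapₗ f (genericPoint X) v = e) ∧ _ :=
    ⟨(rankOne_mono (k := k) hN hdim hM f hG hG0).1.2 e, (rankOne_mono (k := k) hN hdim hM f hG hG0).1⟩
  have hvgen : Gen G (genericPoint X) v := by
    refine ⟨fun a b hab => he.1 ?_, fun w => ?_⟩
    · have := congrArg (RefHull.stalkMapₗ f (genericPoint X)) hab
      rwa [map_smul, map_smul, hv] at this
    · obtain ⟨c, hc⟩ := he.2 (RefHull.stalkMapₗ f (genericPoint X) w)
      exact ⟨c, hb.1 (by rw [map_smul, hv]; exact hc)⟩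
  have hR := Ref1.isRef1_ddual hrel hvgen
  have hinv : PicF.IsInvertible (RefHull.ddual G) := FacDiv.isInvertible_of_ufd hN hR fun x => by
    haveI : IsDomain (X.presheaf.stalk x) := (hN x).1
    haveI := WeilExt.isRegularLocalRing_stalk_of_smooth (X ↘ Spec (CommRingCat.of k))
      (WeilExt.isRegularLocalRing_stalk_spec k) x
    exact RegUFD.ufd_of_isRegularLocalRing _
  haveI : Mono (RefHull.bidualMap G) :=
    (OX.mono_iff _).2 fun x => (ModuleCat.mono_iff_injective _).2 (Ref1.stalkMap_bidual_injective hrel x)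
  have hdd : Coh.IsCoh (RefHull.ddual G) := hR.1
  have hu : DimLT (Set.univ : Set X) 3 := Kleiman.dimLT_univ hdim.le
  obtain ⟨pD, hpD⟩ := Hilb20.exists_isHilbPoly (k := k) hL hdd (hu.mono (Set.subset_univ _))
  obtain ⟨hC, -, pC, hpC, eq⟩ := Hilb20.exists_quotient_poly hL hG hdd (RefHull.bidualMap G) hpG hpD
  have hd : DimLT (CohB1.support (cokernel (RefHull.bidualMap G))) 1 := by
    refine dimLT_one_of_forall_two_le (k := k) hdim fun x hx => ?_
    by_contra hlt
    have h1 : ringKrullDim (X.presheaf.stalk x) ≤ 1 := by_contra fun h => hlt (Ref1.two_le_of_not_le_one h)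
    refine QCoh.notMem_support_cokernel_of_surjective _ ?_ hx
    by_cases h0 : x = genericPoint X
    · subst h0
      exact ((HomSh.bijective_bidual_iff hrel _).2 (FacDiv.isReflexiveAt_of_gen hvgen)).2
    · haveI := hrel.span_stalk x
      haveI : IsDomain (X.presheaf.stalk x) := (hN x).1
      haveI := Ref1.isDiscreteValuationRing_of_dim_one hN (dim_eq_one_of_le_one h1 h0)
      obtain ⟨t, ht⟩ := Ref1.exists_gen_of_pid (Ref1.sp_injective G x) hvgen
      exact ((HomSh.bijective_bidual_iff hrel _).2 (FacDiv.isReflexiveAt_of_gen ht)).2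
  have a1 := Hilb20.alpha_eq_zero (d := 1) hL hC hd hpC
  obtain ⟨-, m, hm⟩ := alpha_invertible hdim hL hLi hgen hinv hpD hpO
  exact ⟨m, by rw [← hm, eq, alpha_add, a1, add_zero]⟩

end GrothLib.DecSh20
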