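import Groth.Agent.Lib.DecSh20.Sectional
import Groth.Agent.Lib.Euler.GenericCompare
import Groth.Agent.Lib.Euler.Divisor
import Groth.Agent.Lib.Euler.VB
import Groth.Agent.Lib.Rigidity.SmoothGroup

/-!
# Parabolic tensor fields on smooth curves
-/

set_option autoImplicit false
set_option linter.style.haveILetI false
set_option linter.unusedSectionVars false
set_option maxHeartbeats 1000000
set_option backward.isDefEq.respectTransparency false

universe u

open CategoryTheory CategoryTheory.Limits AlgebraicGeometry TopologicalSpace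

noncomputable section

namespace GrothLib.DecSh20

variable {X : Scheme.{u}}

theorem isTorsionFree_of_locFree {E : X.Modules} {r : ℕ} (hE : FlatMod.IsFinLocFreeOfRank r E) :
    TorSh.IsTorsionFree E := fun x => by
  obtain ⟨U, e, hx, he⟩ := FinCov.exists_frame_nhd_of_rank hE x
  obtain ⟨b⟩ := Euler.stalk_basis_of_frame he hx
  exact Function.Injective.moduleIsTorsionFree b.equivFun b.equivFun.injective (map_smul _)

theorem eq_pos_of_sub {E P : X.Modules} {r : ℕ} (hE : FlatMod.IsFinLocFreeOfRank r E) (ι : P ⟶ E) [Mono ι]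
    (hP : ¬ IsZero P) : 0 < r := by
  refine Nat.pos_of_ne_zero fun h => hP ?_
  subst h
  refine (IsZero.iff_id_eq_zero P).2 (Scheme.Modules.hom_ext _ _ fun V => AddCommGrpCat.ext fun t => ?_)
  show t = 0
  refine QCoh.section_eq_zero_of_germ P t fun x _ => ?_
  obtain ⟨U, e, hx, he⟩ := FinCov.exists_frame_nhd_of_rank hE x
  obtain ⟨b⟩ := Euler.stalk_basis_of_frame he hx
  haveI : Subsingleton (E.presheaf.stalk x) := b.repr.toEquiv.subsingleton
  exact QCoh.stalkLin_injective ι x (Subsingleton.elim _ _)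

variable (k : Type u) [Field k] [X.Over (Spec (CommRingCat.of k))]
  [IsProper (X ↘ Spec (CommRingCat.of k))] {L : X.Modules}

attribute [local irreducible] Curv2.euler

variable (hd : topologicalKrullDim X ≤ 1)

include k hd in
/-- The multiplicity of a bundle is its rank times that of the structure module. -/
theorem mult_locFree (hL : PicF.IsInvertible L) {E : X.Modules} {r : ℕ} (hE : FlatMod.IsFinLocFreeOfRank r E) :
    DecSh.mult k X L E = r * DecSh.mult k X L (Coh.structureModule X) := by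
  have hEc := Euler.isCoh_of_isFinLocFree (FinCov.isFinLocFree_of_rank hE)
  obtain ⟨U, hU, ⟨φ⟩⟩ := Euler.exists_trivial_genericPoints k hE
  have h := Euler.euler_tF k hd (Euler.isFinLocFreeOfRank_one' hL) hEc hU φ
  have e1 : Curv2.euler k X (CohB1.tensorMod (Coh.structureModule X) L) = Curv2.euler k X L :=
    Euler.euler_of_iso k (OX.tensorUnitLeftIso L)
  have h' : Curv2.euler k X (CohB1.tensorMod E L) =
      r * Curv2.deg k X L 1 + (1 : ℕ) * Curv2.euler k X E := h
  rw [DecSh.mult, DecSh.mult, e1, h', Curv2.deg]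
  push_cast
  ring

variable {ν : ℕ} (I : Fin ν → X.IdealSheafData) {E : X.Modules} {r : ℕ}
  (K : ∀ i, Submodule k (ParSh.fibD X (I i) E))
  (hK : ∀ i, Module.finrank k (ParSh.fibD X (I i) E ⧸ K i) = r) (κ : Fin ν → ℚ) (hκ : ∀ i, 0 < κ i ∧ κ i < 1)

include hK hκ in
omit [IsProper (X ↘ Spec (CommRingCat.of k))] in
theorem parChi_bounds {P : X.Modules} (ι : P ⟶ E) (hr : 0 < r) :
    (Curv2.euler k X P : ℚ) - r * ν ≤ DecSh.parChi k I K κ ι ∧
      DecSh.parChi k I K κ ι ≤ Curv2.euler k X P := by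
  have hfin : ∀ i, FiniteDimensional k (ParSh.fibD X (I i) E ⧸ K i) := fun i =>
    Module.finite_of_finrank_pos (by rw [hK i]; exact hr)
  have hb : ∀ i, (Module.finrank k ((LinearMap.range (ParSh.fibDMap k X (I i) ι)).map (K i).mkQ) : ℚ) ≤ r :=
    fun i => by
      haveI := hfin i
      exact_mod_cast (Submodule.finrank_le _).trans (hK i).le
  constructor
  · have : ∑ i, κ i * (Module.finrank k ((LinearMap.range (ParSh.fibDMap k X (I i) ι)).map (K i).mkQ) : ℚ) ≤
        ∑ _i : Fin ν, (r : ℚ) := Finset.sum_le_sum fun i _ =>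
      le_trans (mul_le_of_le_one_left (Nat.cast_nonneg _) (hκ i).2.le) (hb i)
    simp at this
    rw [DecSh.parChi]
    linarith
  · rw [DecSh.parChi]
    exact sub_le_self _ (Finset.sum_nonneg fun i _ => mul_nonneg (hκ i).1.le (Nat.cast_nonneg _))

variable (hL : CohB1.IsAmple L) (hE : Coh.IsCoh E) (hp : ShStab.IsPure X E 1) {D : X.Modules} {a b : ℕ}
  (T : DecSh.TF E a b D) {δ : ℚ} (hδ : 0 < δ) (hT : T.IsParSemistable k I K κ L δ)

include hd hL hE hp hK hκ hδ hT

theorem par_euler_sub_le (hr : 0 < r) {F : X.Modules} (ι : F ⟶ E) [Mono ι] (hF : Coh.IsCoh F)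
    (hz : ¬ IsZero F) (hι : ¬ IsIso ι) :
    (DecSh.mult k X L E : ℚ) * Curv2.euler k X F - (DecSh.mult k X L F : ℚ) * Curv2.euler k X E ≤
      (DecSh.mult k X L E : ℚ) * (r * ν + δ * a) := by
  let 𝓕 := DecSh.WFilt.single (Subobject.mk ι) (mk_ne_top ι hι) (mk_nonzero ι hz)
  have h := hT 𝓕 fun i => isCoh_mk ι hF
  have hs := sum_single (mk_ne_top ι hι) (mk_nonzero ι hz) fun P : Subobject E =>
    (DecSh.mult k X L E : ℚ) * DecSh.parChi k I K κ P.arrow -
      (DecSh.mult k X L (P : X.Modules) : ℚ) * DecSh.parChi k I K κ (𝟙 E)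
  have hmu := mu_single_ge (DecSh.mult k X L E) (fun P => DecSh.mult k X L (P : X.Modules)) (Subobject.mk ι)
    (mk_ne_top ι hι) (mk_nonzero ι hz) T.nv (mult_nonneg k hd hL hE)
  rw [DecSh.WFilt.msum, hs] at h
  rw [mult_of_iso k L (Subobject.underlyingIso ι)] at h hmu
  have hb := (parChi_bounds k I K hK κ hκ (Subobject.mk ι).arrow hr).1
  rw [Euler.euler_of_iso k (Subobject.underlyingIso ι)] at hb
  have hbE := (parChi_bounds k I K hK κ hκ (𝟙 E) hr).2
  have hm0 : (0 : ℚ) ≤ DecSh.mult k X L F := by exact_mod_cast mult_nonneg k hd hL hF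
  have hA0 : (0 : ℚ) ≤ DecSh.mult k X L E := by exact_mod_cast mult_nonneg k hd hL hE
  have h3 := mul_le_mul_of_nonneg_left hb hA0
  have h4 := mul_le_mul_of_nonneg_left hbE hm0
  have h5 := mul_le_mul_of_nonneg_left hmu hδ.le
  have h6 : 0 ≤ δ * a * (DecSh.mult k X L F : ℚ) := mul_nonneg (by positivity) hm0
  linarith

theorem par_subLe (hrk : FlatMod.IsFinLocFreeOfRank r E) :
    SubLe k E (|(Curv2.euler k X E : ℚ)| + (r * ν + δ * a)) := by
  intro G ι hι hG hz
  haveI := hι
  have hr : 0 < r := eq_pos_of_sub hrk ι hz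
  have h1 : (1 : ℚ) ≤ DecSh.mult k X L G := by exact_mod_cast one_le_mult k hd hL hp ι hG hz
  have h2 : (DecSh.mult k X L G : ℚ) ≤ DecSh.mult k X L E := by exact_mod_cast mult_le_of_mono k hd hL ι hG hE
  by_cases hi : IsIso ι
  · rw [Euler.euler_of_iso k (asIso ι)]
    have : 0 ≤ (r : ℚ) * ν + δ * a := by positivity
    linarith [le_abs_self (Curv2.euler k X E : ℚ)]
  · have h := par_euler_sub_le k hd I K hK κ hκ hL hE hp T hδ hT hr ι hG hz hi
    refine le_of_mul_le_mul_left ?_ (lt_of_lt_of_le zero_lt_one (h1.trans h2))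
    have h3 : (DecSh.mult k X L G : ℚ) * Curv2.euler k X E ≤
        (DecSh.mult k X L E : ℚ) * |(Curv2.euler k X E : ℚ)| :=
      (mul_le_mul_of_nonneg_left (le_abs_self _) (by linarith)).trans
        (mul_le_mul_of_nonneg_right h2 (abs_nonneg _))
    linarith

end GrothLib.DecSh20
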