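import Groth.Agent.Lib.DecSh20.MuExt
import Groth.Agent.Lib.DecSh20.Parabolic
import Groth.Agent.Lib.DegDet.Stalk
import Groth.Agent.Lib.QCoh.ClosedImmersion
import Groth.Agent.Lib.GeomSS.Main
import Groth.Agent.Lib.H1Sheaf6.Conormal
import Groth.Agent.Lib.K0Sub.RankNilp
import Groth.Agent.Lib.CurveMult.TwistHom
import Groth.Agent.Lib.Euler.GenericCompare
import Groth.Agent.Lib.CurveMult.EtaleEuler

/-!
# Submodules of free modules on surfaces, and kernels of maps to modules on curves
-/

set_option autoImplicit false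
set_option linter.style.haveILetI false
set_option linter.unusedSectionVars false
set_option maxHeartbeats 1000000
set_option backward.isDefEq.respectTransparency.types false

universe u

open CategoryTheory CategoryTheory.Limits AlgebraicGeometry Polynomial
open GrothLib.Snapper (DimLT)
open GrothLib.Ref1 (sp hη Gen)
open GrothLib.Hilb20 (alpha_add)
open StabCat (alpha)

noncomputable section

namespace GrothLib.DecSh20

variable {X : Scheme.{u}} {k : Type u} [Field k] [X.Over (Spec (CommRingCat.of k))]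
  [IsProper (X ↘ Spec (CommRingCat.of k))]

attribute [local irreducible] Curv2.euler

/-- The Hilbert polynomial of a free module. -/
theorem isHilbPoly_freeMod {L : X.Modules} (hLi : PicF.IsInvertible L) {pO : ℚ[X]}
    (hpO : ShStab.IsHilbPoly k X L (Coh.structureModule X) pO) (e : ℕ) :
    ShStab.IsHilbPoly k X L (FlatMod.freeMod X e) (C (e : ℚ) * pO) := fun j => by
  have hT := Ample.isInvertible_tensorPow hLi j
  have h := Euler.euler_freeMod k (Euler.isFinLocFreeOfRank_one' hT) e
  rw [Curv2.deg, CurveMult.euler_freeMod_structure k e] at h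
  have h' : Curv2.euler k X (ShStab.twist X L (FlatMod.freeMod X e) j) =
      (e : ℤ) * Curv2.euler k X (CohB1.tensorPow L j) := by
    change Curv2.euler k X (ShStab.twist X L (FlatMod.freeMod X e) j) - _ = _ at h
    push_cast at h ⊢
    linarith
  have h2 := hpO j
  rw [Euler.euler_of_iso k (show ShStab.twist X L (Coh.structureModule X) j ≅ CohB1.tensorPow L j from
    OX.tensorUnitLeftIso _)] at h2
  rw [h', eval_mul, eval_C]
  push_cast
  rw [h2]

theorem proj_jointly_mono {e : ℕ} {W : X.Modules} (g : W ⟶ FlatMod.freeMod X e)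
    (h : ∀ j, g ≫ FinCov.proj X e j = 0) : g = 0 := by
  rw [← Category.comp_id g, ← FinCov.sum_proj_ι, Preadditive.comp_sum]
  exact Finset.sum_eq_zero fun j _ => by rw [← Category.assoc, h j, Limits.zero_comp]

include k in
theorem isReflexive_freeMod [IsIntegral X] (e : ℕ) : RefHull.IsReflexive (FlatMod.freeMod X e) := by
  haveI := Euler.isNoetherian_of_proper (X := X) k
  refine (HomSh.isReflexive_iff (HomSh.hasRel_of_isCoh (DegDet.isCoh_freeMod X e))).2 fun x => ?_
  obtain ⟨U, s, hx, hs⟩ := FinCov.exists_frame_nhd_of_rank (K0Sub.isFinLocFreeOfRank_freeMod e) x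
  obtain ⟨b⟩ := Euler.stalk_basis_of_frame hs hx
  haveI : Module.Free (X.presheaf.stalk x) ((FlatMod.freeMod X e).presheaf.stalk x) := Module.Free.of_basis b
  haveI : Module.Finite (X.presheaf.stalk x) ((FlatMod.freeMod X e).presheaf.stalk x) := Module.Finite.of_basis b
  exact (inferInstance : Module.IsReflexive (X.presheaf.stalk x) ((FlatMod.freeMod X e).presheaf.stalk x))

section Surface

variable [IsIntegral X] [Smooth (X ↘ Spec (CommRingCat.of k))] [PicGrp.Law X]
  (hdim : topologicalKrullDim X = ((2 : ℕ) : WithBot ℕ∞)) {L : X.Modules}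
  (hL : CohB1.IsAmple L) (hLi : PicF.IsInvertible L)
  (hgen : ∀ c : PicLoc.PicSet X, ∃ n : ℤ, c = PicGrp.cls L hLi ^ n)
  {pO : ℚ[X]} (hpO : ShStab.IsHilbPoly k X L (Coh.structureModule X) pO)

include hdim hL hgen hpO in
/-- A nonzero submodule of the structure module. -/
theorem exists_nonpos_of_sub_structure {G : X.Modules} (f : G ⟶ Coh.structureModule X) [Mono f]
    (hG : Coh.IsCoh G) (hG0 : ¬ IsZero G) {pG : ℚ[X]} (hpG : ShStab.IsHilbPoly k X L G pG) :
    alpha 2 pG = alpha 2 pO ∧ ∃ m : ℤ, m ≤ 0 ∧ alpha 1 pG = alpha 1 pO + (m : ℚ) * alpha 2 pO ∧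
      (m = 0 → DimLT (CohB1.support (cokernel f)) 1) := by
  haveI := Euler.isNoetherian_of_proper (X := X) k
  have hN := Hilb20.isNormalScheme_of_smooth (X := X) k
  have hOi : PicF.IsInvertible (Coh.structureModule X) := Euler.isInvertible_structure
  have hA : 0 < alpha 2 pO := Hilb20.alpha_pos_self hL (Kleiman.isCoh_O k)
    (fun h => (Hilb20.support_eq_empty_of_isZero h ▸ Kleiman.mem_support_structure (genericPoint X) :))
    (isPure_of_isInvertible (k := k) hN hdim hOi) hpO
  obtain ⟨h2, h1, heq⟩ := alpha_rankOne hN hdim hL hOi f hG hG0 hpG hpO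
  obtain ⟨m, hm⟩ := alpha_sub hdim hL hLi hgen hOi f hG hG0 hpG hpO
  refine ⟨h2, m, ?_, hm, fun h0 => heq (by rw [hm, h0]; simp)⟩
  by_contra hlt
  have : (1 : ℚ) ≤ (m : ℚ) := by exact_mod_cast lt_of_not_ge hlt
  nlinarith

include hdim hL hgen hpO in
/-- Submodules of modules embedded in finitely many copies of the structure module. -/
theorem alpha_sub_free : ∀ (e : ℕ) (G : X.Modules) (p : Fin e → (G ⟶ Coh.structureModule X)),
    (∀ (W : X.Modules) (g : W ⟶ G), (∀ j, g ≫ p j = 0) → g = 0) → Coh.IsCoh G →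
    ∀ (pG : ℚ[X]), ShStab.IsHilbPoly k X L G pG →
      ∃ r : ℕ, r ≤ e ∧ alpha 2 pG = (r : ℚ) * alpha 2 pO ∧ ∃ m : ℤ, m ≤ 0 ∧
        alpha 1 pG = (r : ℚ) * alpha 1 pO + (m : ℚ) * alpha 2 pO ∧
        (m = 0 → ¬ IsZero G → ∃ (K : X.Modules) (u : K ⟶ G) (q : K ⟶ Coh.structureModule X),
          Mono u ∧ Mono q ∧ Coh.IsCoh K ∧ ¬ IsZero K ∧ DimLT (CohB1.support (cokernel q)) 1) := by
  haveI := Euler.isNoetherian_of_proper (X := X) k
  intro e
  induction e with
  | zero =>
    intro G p hp _ pG hpG
    have hz : IsZero G := (IsZero.iff_id_eq_zero G).2 (hp G (𝟙 G) fun j => j.elim0)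
    rw [Hilb20.isHilbPoly_unique hpG (Hilb20.isHilbPoly_of_isZero hz)]
    exact ⟨0, le_rfl, by simp [alpha], 0, le_rfl, by simp [alpha], fun _ h => absurd hz h⟩
  | succ e ih =>
    intro G p hp hG pG hpG
    have hO : Coh.IsCoh (Coh.structureModule X) := Kleiman.isCoh_O k
    have hu : DimLT (Set.univ : Set X) 3 := Kleiman.dimLT_univ hdim.le
    by_cases hl : p (Fin.last e) = 0
    · obtain ⟨r, hr, h⟩ := ih G (fun j => p j.castSucc) (fun W g hg => hp W g fun j => by
        refine Fin.lastCases ?_ (fun i => hg i) j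
        rw [hl, Limits.comp_zero]) hG pG hpG
      exact ⟨r, hr.trans e.le_succ, h⟩
    let K := kernel (p (Fin.last e))
    have hK : Coh.IsCoh K := QCoh.isCoh_kernel _ hG hO
    obtain ⟨pK, hpK⟩ := Hilb20.exists_isHilbPoly (k := k) hL hK (hu.mono (Set.subset_univ _))
    obtain ⟨w, hS⟩ := QCoh.shortExact_kernel_image (p (Fin.last e))
    have hI := Hilb20.isCoh_image (k := k) (p (Fin.last e)) hG hO
    obtain ⟨pI, hpI⟩ := Hilb20.exists_isHilbPoly (k := k) hL hI (hu.mono (Set.subset_univ _))
    have hsum := Hilb20.eq_add_of_shortExact hLi hS hK hG hI hpK hpG hpI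
    obtain ⟨r, hr, r2, m, hm0, r1, hw⟩ := ih K (fun j => kernel.ι (p (Fin.last e)) ≫ p j.castSucc)
      (fun W g hg => by
        rw [← cancel_mono (kernel.ι (p (Fin.last e))), Limits.zero_comp]
        refine hp W _ fun j => ?_
        refine Fin.lastCases ?_ (fun i => ?_) j
        · rw [Category.assoc, kernel.condition, Limits.comp_zero]
        · rw [Category.assoc]; exact hg i) hK pK hpK
    obtain ⟨i2, m', hm'0, i1, hcok⟩ := exists_nonpos_of_sub_structure hdim hL hLi hgen hpO
      (Abelian.image.ι (p (Fin.last e))) hI (Hilb20.image_not_isZero hl) hpI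
    refine ⟨r + 1, by omega, by rw [hsum, alpha_add, r2, i2]; push_cast; ring, m + m', by omega,
      by rw [hsum, alpha_add, r1, i1]; push_cast; ring, fun h0 _ => ?_⟩
    by_cases hKz : IsZero K
    · haveI : Mono (p (Fin.last e)) := Preadditive.mono_of_kernel_zero (hKz.eq_zero_of_src _)
      have hG0 : ¬ IsZero G := fun h => hl (h.eq_zero_of_src _)
      obtain ⟨pI', hpI'⟩ := Hilb20.exists_isHilbPoly (k := k) hL hG (hu.mono (Set.subset_univ _))
      obtain ⟨-, n, -, hn, hd⟩ := exists_nonpos_of_sub_structure hdim hL hLi hgen hpO (p (Fin.last e)) hG hG0 hpG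
      have hKp := Hilb20.isHilbPoly_unique hpK (Hilb20.isHilbPoly_of_isZero hKz)
      have he : alpha 1 pG = alpha 1 pI := by rw [hsum, hKp, zero_add]
      refine ⟨G, 𝟙 G, p (Fin.last e), inferInstance, inferInstance, hG, hG0, hd ?_⟩
      rw [he, i1, show m' = 0 by omega] at hn
      have hA : alpha 2 pO ≠ 0 := by
        rw [← i2]
        exact (Hilb20.alpha_pos_of_pure hL (isPure_of_isInvertible (k := k)
          (Hilb20.isNormalScheme_of_smooth (X := X) k) hdim Euler.isInvertible_structure)
          (Abelian.image.ι (p (Fin.last e))) hI (Hilb20.image_not_isZero hl) hpI).ne'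
      simpa [hA] using hn.symm
    · obtain ⟨K', u, q, hu', hq, hK', hK'0, hd⟩ := hw (by omega) hKz
      haveI := hu'
      exact ⟨K', u ≫ kernel.ι (p (Fin.last e)), q, inferInstance, hq, hK', hK'0, hd⟩

include k hdim in
/-- A submodule which is a copy of `O` up to points produces a map from `O`, inside it off points. -/
theorem exists_section_of_sub {e : ℕ} {K : X.Modules} (u : K ⟶ FlatMod.freeMod X e) [Mono u]
    (q : K ⟶ Coh.structureModule X) [Mono q] (hK : Coh.IsCoh K) (hK0 : ¬ IsZero K)
    (hd : DimLT (CohB1.support (cokernel q)) 1) :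
    ∃ ψ : Coh.structureModule X ⟶ FlatMod.freeMod X e, ψ ≠ 0 ∧
      ∀ {Q : X.Modules} (l : FlatMod.freeMod X e ⟶ Q), u ≫ l = 0 → Coh.IsCoh Q →
        DimLT (CohB1.support (Abelian.image (ψ ≫ l))) 1 := by
  haveI := Euler.isNoetherian_of_proper (X := X) k
  have hN := Hilb20.isNormalScheme_of_smooth (X := X) k
  have hO : Coh.IsCoh (Coh.structureModule X) := Kleiman.isCoh_O k
  have hF : Coh.IsCoh (FlatMod.freeMod X e) := DegDet.isCoh_freeMod X e
  haveI := hF.1
  have hR := isReflexive_freeMod (X := X) (k := k) e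
  have hbij := (rankOne_mono (k := k) hN hdim Euler.isInvertible_structure q hK hK0).1
  have hcl := QCoh.isClosed_support_of_isCoh (QCoh.isCoh_cokernel q hK hO)
  have hsurj : ∀ x : X, ¬ (2 : WithBot ℕ∞) ≤ ringKrullDim (X.presheaf.stalk x) →
      Function.Surjective (RefHull.stalkMapₗ q x) := by
    intro x hx v
    have hnot : x ∉ CohB1.support (cokernel q) := fun hmem => hx
      (Hilb20.dim_stalk_two_le (X ↘ Spec (CommRingCat.of k)) hdim hcl rfl hd hmem)
    haveI := QCoh.stalk_subsingleton_of_notMem hnot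
    have he := (OX.exact_iff (ShortComplex.mk q (cokernel.π q) (cokernel.condition q))).1
      (ShortComplex.exact_cokernel q) x
    rw [ShortComplex.moduleCat_exact_iff] at he
    exact he v (Subsingleton.elim (α := (cokernel q).presheaf.stalk x) _ _)
  let E := LinearEquiv.ofBijective (RefHull.stalkMapₗ q (genericPoint X)) hbij
  obtain ⟨ψ, hψ⟩ := Ref1.exists_hom_of_dim_one hN (HomSh.hasRel_of_isCoh hF) hR
    ((RefHull.stalkMapₗ u (genericPoint X)).comp E.symm.toLinearMap) fun x hx v => by
      obtain ⟨w, hw⟩ := hsurj x (by rw [hx]; decide) v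
      refine ⟨RefHull.stalkMapₗ u x w, ?_⟩
      rw [LinearMap.comp_apply, ← hw, ← Ref1.stalkMapₗ_sp, ← Ref1.stalkMapₗ_sp]
      exact congrArg _ (E.symm_apply_apply _).symm
  have hη : genericPoint X ∈ CohB1.support K := by
    by_contra h
    exact Hilb20.isPure_not_dimLT (isPure_of_isInvertible (k := k) hN hdim Euler.isInvertible_structure) q hK hK0
      (dimLT_two_of_notMem (k := k) hdim h)
  refine ⟨ψ, fun h0 => ?_, fun {Q} l hl hQ => ?_⟩
  · haveI : Nontrivial (K.presheaf.stalk (genericPoint X)) := not_subsingleton_iff_nontrivial.1 hη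
    obtain ⟨v, hv⟩ := exists_ne (0 : K.presheaf.stalk (genericPoint X))
    have huinj : Function.Injective (RefHull.stalkMapₗ u (genericPoint X)) := QCoh.stalkLin_injective u _
    refine hv (huinj ?_)
    rw [map_zero]
    have := LinearMap.congr_fun hψ (RefHull.stalkMapₗ q (genericPoint X) v)
    rw [h0, LinearMap.comp_apply] at this
    have he : E.symm.toLinearMap (RefHull.stalkMapₗ q (genericPoint X) v) = v := E.symm_apply_apply v
    rw [he] at this
    rw [← this]
    obtain ⟨U, hU, s, hs⟩ := TopCat.Presheaf.exists_germ_eq (Coh.structureModule X).presheaf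
      (RefHull.stalkMapₗ q (genericPoint X) v)
    rw [← hs, RefHull.stalkMapₗ_germ]
    simp
  · refine dimLT_one_of_forall_two_le (k := k) hdim fun x hx => ?_
    by_contra hlt
    refine hx ?_
    have hinj := QCoh.stalkLin_injective (Abelian.image.ι (ψ ≫ l)) x
    refine subsingleton_of_forall_eq 0 fun v => hinj ?_
    rw [map_zero]
    obtain ⟨o, rfl⟩ := QCoh.stalkLin_surjective (Abelian.factorThruImage (ψ ≫ l)) x v
    obtain ⟨w, rfl⟩ := hsurj x hlt o
    have hsp : RefHull.stalkMapₗ ψ x (RefHull.stalkMapₗ q x w) = RefHull.stalkMapₗ u x w := by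
      refine Ref1.injective_sp_of_isReflexive hN (HomSh.hasRel_of_isCoh hF) hR x ?_
      rw [← Ref1.stalkMapₗ_sp, hψ, ← Ref1.stalkMapₗ_sp, ← Ref1.stalkMapₗ_sp, LinearMap.comp_apply]
      exact congrArg _ (E.symm_apply_apply _)
    show RefHull.stalkMapₗ (Abelian.image.ι (ψ ≫ l)) x
      (RefHull.stalkMapₗ (Abelian.factorThruImage (ψ ≫ l)) x (RefHull.stalkMapₗ q x w)) = 0
    rw [← LinearMap.comp_apply (RefHull.stalkMapₗ (Abelian.image.ι (ψ ≫ l)) x), ← Ref1.stalkMapₗ_comp,
      Abelian.image.fac, Ref1.stalkMapₗ_comp, LinearMap.comp_apply, hsp, ← LinearMap.comp_apply,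
      ← Ref1.stalkMapₗ_comp, hl]
    obtain ⟨U, hU, s, rfl⟩ := TopCat.Presheaf.exists_germ_eq K.presheaf w
    rw [RefHull.stalkMapₗ_germ]
    simp

end Surface

section Push

variable {Z : Scheme.{u}} (i : Z ⟶ X) [IsClosedImmersion i]

theorem dimLT_preimage' {S : Set X} {d : ℕ} (h : DimLT S d) : DimLT (i.base ⁻¹' S) d := by
  intro l hl
  have hmono : StrictMono (fun z : Z => i.base z) := fun a b hab => by
    refine lt_of_le_not_ge (show i.base b ⤳ i.base a from i.isClosedEmbedding.isInducing.specializes_iff.2 hab.le)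
      fun hle => hab.not_ge (i.isClosedEmbedding.isInducing.specializes_iff.1 hle)
  exact h (l.map _ hmono) fun j => hl j

variable [Z.Over (Spec (CommRingCat.of k))] [IsProper (Z ↘ Spec (CommRingCat.of k))]

include k in
/-- Nothing with finite support maps to the direct image of a pure one-dimensional module. -/
theorem hom_push_eq_zero' {E : Z.Modules} (hE : Coh.IsCoh E) (hp : ShStab.IsPure Z E 1) {M : X.Modules}
    (hM : Coh.IsCoh M) (hM0 : DimLT (CohB1.support M) 1)
    (g : M ⟶ (Scheme.Modules.pushforward i).obj E) : g = 0 := by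
  haveI := Euler.isNoetherian_of_proper (X := Z) k
  let adj := Scheme.Modules.pullbackPushforwardAdjunction i
  let h := (adj.homEquiv _ _).symm g
  suffices h0 : h = 0 by
    have h1 : adj.homEquiv _ _ h = g := Equiv.apply_symm_apply _ _
    rw [← h1, h0, Adjunction.homEquiv_unit]
    exact (congrArg (adj.unit.app M ≫ ·) ((Scheme.Modules.pushforward i).map_zero _ _)).trans Limits.comp_zero
  have hMX : Coh.IsCoh ((Scheme.Modules.pullback i).obj M) := GeomSS.isCoh_pullback' i hM
  have hI : Coh.IsCoh (Abelian.image h) := Hilb20.isCoh_image (k := k) h hMX hE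
  have hIz : IsZero (Abelian.image h) := by
    by_contra hne
    refine Hilb20.isPure_not_dimLT hp (Abelian.image.ι h) hI hne ((dimLT_preimage' i hM0).mono ?_)
    rw [← QCoh.support_pullback i M hM]
    exact QCoh.support_subset_of_epi (Abelian.factorThruImage h)
  rw [← Abelian.image.fac h, hIz.eq_zero_of_tgt (Abelian.factorThruImage h), Limits.zero_comp]

variable [IsIntegral Z]

include k in
/-- A nonzero map from the structure module to an invertible module on a curve is onto off points. -/
theorem dimLT_cokernel_push (hdimZ : topologicalKrullDim Z = ((1 : ℕ) : WithBot ℕ∞)) (hN : Pi1.IsNormalScheme Z)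
    {A : Z.Modules} (hA : PicF.IsInvertible A) (g : Coh.structureModule X ⟶ (Coh.push i).obj A) (hg : g ≠ 0) :
    DimLT (CohB1.support (cokernel g)) 1 := by
  haveI := Euler.isNoetherian_of_proper (X := X) k
  haveI := Euler.isNoetherian_of_proper (X := Z) k
  have hO : Coh.IsCoh (Coh.structureModule X) := Kleiman.isCoh_O k
  have hAc := Euler.isCoh_of_isInvertible hA
  have hP : Coh.IsCoh ((Coh.push i).obj A) := K0Sub.isCoh_push i hAc
  have hpA : ShStab.IsPure Z A 1 :=
    Hilb20.isPure_of_sp_injective (Ref1.injective_sp_of_isRef1 hN (FacDiv.isRef1_of_isInvertible hA)) hdimZ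
  have hr : DimLT (Set.range i) 2 := Hilb20.dimLT_range_of_univ i (Kleiman.dimLT_univ hdimZ.le)
  let ξ := genericPoint Z
  have hcl : closure ({i.base ξ} : Set X) = Set.range i := by
    have h1 : closure ({ξ} : Set Z) = Set.univ := (genericPoint_spec Z).def
    rw [← Set.image_singleton, i.isClosedEmbedding.closure_image_eq, h1, Set.image_univ]
  have hnot : ∀ {S : Set X}, S ⊆ Set.range i → i.base ξ ∉ S → DimLT S 1 := fun {S} hS h =>
    Snapper.dimLT_of_notMem (η := i.base ξ) (hcl ▸ hr) (hcl ▸ hS) h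
  have hsub : CohB1.support ((Coh.push i).obj A) ⊆ Set.range i := QCoh.support_pushforward_subset_range i A
  have hI := Hilb20.isCoh_image (k := k) g hO hP
  -- the image is nonzero at the generic point of the curve
  have hne : i.base ξ ∈ CohB1.support (Abelian.image g) := by
    by_contra h
    have h1 := hnot ((QCoh.support_subset_of_mono (Abelian.image.ι g)).trans hsub) h
    refine hg ?_
    rw [← Abelian.image.fac g, hom_push_eq_zero' (k := k) i hAc hpA hI h1 (Abelian.image.ι g), Limits.comp_zero]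
  haveI : Nontrivial ((Abelian.image g).presheaf.stalk (i.base ξ)) := not_subsingleton_iff_nontrivial.1 hne
  obtain ⟨v, hv⟩ := exists_ne (0 : (Abelian.image g).presheaf.stalk (i.base ξ))
  obtain ⟨o, rfl⟩ := QCoh.stalkLin_surjective (Abelian.factorThruImage g) _ v
  have hw : RefHull.stalkMapₗ g (i.base ξ) o ≠ 0 := by
    intro h
    refine hv (QCoh.stalkLin_injective (Abelian.image.ι g) _ ?_)
    refine Eq.trans ?_ (h.trans (map_zero (QCoh.stalkLin (Abelian.image.ι g) _)).symm)
    conv_rhs => rw [← Abelian.image.fac g, Ref1.stalkMapₗ_comp]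
    rfl
  refine hnot (((QCoh.support_subset_of_epi (cokernel.π g))).trans hsub)
    (QCoh.notMem_support_cokernel_of_surjective g fun t => ?_)
  have hbij := QCoh.pushStalkHom_bijective i ξ A i.isClosedEmbedding.isInducing
  obtain ⟨e, he⟩ := Ref1.exists_gen_of_isInvertible hA ξ
  have hne' : (QCoh.pushStalkHom i ξ A).hom (RefHull.stalkMapₗ g (i.base ξ) o) ≠ 0 := fun h =>
    hw (hbij.1 (h.trans (map_zero _).symm))
  obtain ⟨c, hc⟩ := (Ref1.gen_of_ne_zero he hne').2 ((QCoh.pushStalkHom i ξ A).hom t)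
  obtain ⟨d, rfl⟩ := i.stalkMap_surjective ξ c
  refine ⟨d • o, hbij.1 ?_⟩
  refine Eq.trans ?_ hc
  show (QCoh.pushStalkHom i ξ A).hom (RefHull.stalkMapₗ g (i.base ξ) (d • o)) = _
  rw [map_smul]
  exact (QCoh.pushStalkHom i ξ A).hom.map_smul d _

theorem idealModι_comp_push {A : Z.Modules} (g : Coh.structureModule X ⟶ (Coh.push i).obj A) :
    ClSub.idealModι i.ker ≫ g = 0 := by
  refine Scheme.Modules.hom_ext _ _ fun W => AddCommGrpCat.ext fun m => ?_
  show g.app W (IdealModSec.val i.ker W m : Γ(Coh.structureModule X, W)) = 0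
  rw [← FinCov.smul_one W (IdealModSec.val i.ker W m), Scheme.Modules.Hom.app_smul]
  show (i.app W (IdealModSec.val i.ker W m)) • (show Γ(A, i ⁻¹ᵁ W) from g.app W (FinCov.one X W)) = 0
  rw [H1Sheaf6.app_val_eq_zero, zero_smul]

end Push

end GrothLib.DecSh20
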