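import Groth.Prelude.Def_DecSh
import Mathlib.Tactic.Linarith
import Mathlib.Algebra.Order.BigOperators.Group.Finset
import Mathlib.Algebra.Order.Ring.Abs

/-!
# Bounds for the weight of a weighted filtration
-/

set_option autoImplicit false
set_option linter.style.haveILetI false
set_option linter.unusedSectionVars false
set_option maxHeartbeats 1000000

universe v u

open CategoryTheory CategoryTheory.Limits DecSh

namespace GrothLib.DecSh20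

variable {C : Type u} [Category.{v} C] {E : C} (𝓕 : WFilt E) (αE : ℤ) (α : Subobject E → ℤ) {a : ℕ}

theorem nu_le (I : Fin a → Fin (𝓕.t + 1)) (i : Fin 𝓕.t) : 𝓕.nu αE α I i ≤ a :=
  (Finset.card_filter_le _ _).trans (by simp)

theorem abs_gam_term_le (h1 : ∀ i, 1 ≤ α (𝓕.piece i)) (h2 : ∀ i, α (𝓕.piece i) ≤ αE)
    (I : Fin a → Fin (𝓕.t + 1)) (i : Fin 𝓕.t) :
    |(a : ℚ) * (α (𝓕.piece i) : ℚ) - (𝓕.nu αE α I i : ℚ) * (αE : ℚ)| ≤ (a : ℚ) * ((αE : ℚ) - 1) := by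
  have hE : 1 ≤ αE := (h1 i).trans (h2 i)
  have hE' : (1 : ℚ) ≤ αE := by exact_mod_cast hE
  rcases eq_or_lt_of_le (h2 i) with he | hlt
  · have hn : 𝓕.nu αE α I i = a := by
      rw [WFilt.nu, Finset.filter_true_of_mem fun j _ => ?_, Finset.card_univ, Fintype.card_fin]
      rw [he]
      refine Fin.lastCases ?_ (fun l => ?_) (I j)
      · simp
      · simpa using h2 l
    rw [hn, he, sub_self, abs_zero]
    have : (0 : ℚ) ≤ a := Nat.cast_nonneg a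
    nlinarith
  · have hi1 : (1 : ℚ) ≤ α (𝓕.piece i) := by exact_mod_cast h1 i
    have hi2 : (α (𝓕.piece i) : ℚ) ≤ αE - 1 := by
      exact_mod_cast (show α (𝓕.piece i) ≤ αE - 1 by omega)
    have hn : (𝓕.nu αE α I i : ℚ) ≤ a := by exact_mod_cast nu_le 𝓕 αE α I i
    have hn0 : (0 : ℚ) ≤ (𝓕.nu αE α I i : ℚ) := Nat.cast_nonneg _
    have ha : (0 : ℚ) ≤ a := Nat.cast_nonneg a
    rw [abs_le]
    constructor <;> nlinarith

theorem abs_mu_le (N : NV E a) (h1 : ∀ i, 1 ≤ α (𝓕.piece i)) (h2 : ∀ i, α (𝓕.piece i) ≤ αE) :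
    |𝓕.mu αE α N| ≤ (∑ i, 𝓕.wt i) * (a : ℚ) * ((αE : ℚ) - 1) := by
  obtain ⟨I, -, hI⟩ := 𝓕.exists_gam_eq_mu αE α N
  rw [← hI, WFilt.gam, mul_assoc, Finset.sum_mul]
  refine (Finset.abs_sum_le_sum_abs _ _).trans (Finset.sum_le_sum fun i _ => ?_)
  rw [abs_mul, abs_of_pos (𝓕.wt_pos i)]
  exact mul_le_mul_of_nonneg_left (abs_gam_term_le 𝓕 αE α h1 h2 I i) (𝓕.wt_pos i).le

theorem mu_le_mu_sub (N : NV E a) (h1 : ∀ i, 1 ≤ α (𝓕.piece i)) (h2 : ∀ i, α (𝓕.piece i) ≤ αE)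
    (𝓕₁ : WFilt E) (e : Fin 𝓕₁.t → Fin 𝓕.t) (hpiece : ∀ j, 𝓕₁.piece j = 𝓕.piece (e j))
    (hwt : ∀ j, 𝓕₁.wt j = 𝓕.wt (e j)) :
    𝓕.mu αE α N ≤ 𝓕₁.mu αE α N + ((∑ i, 𝓕.wt i) - ∑ j, 𝓕₁.wt j) * (a : ℚ) * ((αE : ℚ) - 1) := by
  classical
  have he : Function.Injective e := fun x y h => 𝓕₁.piece_strictMono.injective (by rw [hpiece, hpiece, h])
  obtain ⟨I₁, hI₁, hg⟩ := 𝓕₁.exists_gam_eq_mu αE α N
  let e' : Fin (𝓕₁.t + 1) → Fin (𝓕.t + 1) := Fin.lastCases (Fin.last 𝓕.t) fun j => (e j).castSucc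
  have hX : ∀ j, 𝓕.pieceX (e' j) = 𝓕₁.pieceX j := fun j => by
    refine Fin.lastCases ?_ (fun l => ?_) j
    · simp [e']
    · simp [e', hpiece]
  have hM : ∀ j, 𝓕.mulX αE α (e' j) = 𝓕₁.mulX αE α j := fun j => by
    refine Fin.lastCases ?_ (fun l => ?_) j
    · simp [e']
    · simp [e', hpiece]
  have hAdm : 𝓕.Adm N (e' ∘ I₁) := by
    simpa only [WFilt.Adm, Function.comp, hX] using hI₁
  refine (𝓕.mu_le_gam αE α N hAdm).trans ?_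
  rw [← hg, WFilt.gam, WFilt.gam]
  let f : Fin 𝓕.t → ℚ := fun i =>
    𝓕.wt i * ((a : ℚ) * (α (𝓕.piece i) : ℚ) - (𝓕.nu αE α (e' ∘ I₁) i : ℚ) * (αE : ℚ))
  let S := Finset.univ.image e
  have hS1 : ∑ i ∈ S, f i =
      ∑ j, 𝓕₁.wt j * ((a : ℚ) * (α (𝓕₁.piece j) : ℚ) - (𝓕₁.nu αE α I₁ j : ℚ) * (αE : ℚ)) := by
    rw [Finset.sum_image fun x _ y _ h => he h]
    refine Finset.sum_congr rfl fun j _ => ?_
    simp only [f, WFilt.nu, Function.comp, hM, hpiece, hwt]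
  have hS2 : ∑ i ∈ S, 𝓕.wt i = ∑ j, 𝓕₁.wt j := by
    rw [Finset.sum_image fun x _ y _ h => he h]
    simp only [hwt]
  have hrest : ∑ i ∈ Sᶜ, f i ≤ (∑ i ∈ Sᶜ, 𝓕.wt i) * ((a : ℚ) * ((αE : ℚ) - 1)) := by
    rw [Finset.sum_mul]
    refine Finset.sum_le_sum fun i _ => ?_
    exact mul_le_mul_of_nonneg_left
      ((le_abs_self _).trans (abs_gam_term_le 𝓕 αE α h1 h2 (e' ∘ I₁) i)) (𝓕.wt_pos i).le
  have hsum : ∑ i ∈ S, 𝓕.wt i + ∑ i ∈ Sᶜ, 𝓕.wt i = ∑ i, 𝓕.wt i := Finset.sum_add_sum_compl S _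
  show ∑ i, f i ≤ _
  rw [← Finset.sum_add_sum_compl S f, hS1, ← hsum, hS2]
  linarith

theorem mu_single_ge (P : Subobject E) (hP : P ≠ ⊤) (hP0 : ¬ IsZero (P : C)) (N : NV E a) (hαE : 0 ≤ αE) :
    (a : ℚ) * ((α P : ℚ) - αE) ≤ (WFilt.single P hP hP0).mu αE α N := by
  obtain ⟨I, -, hI⟩ := (WFilt.single P hP hP0).exists_gam_eq_mu αE α N
  rw [← hI, WFilt.gam]
  have hE : (0 : ℚ) ≤ αE := by exact_mod_cast hαE
  haveI : Subsingleton (Fin (WFilt.single P hP hP0).t) := inferInstanceAs (Subsingleton (Fin 1))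
  let i₀ : Fin (WFilt.single P hP hP0).t := (0 : Fin 1)
  rw [Fintype.sum_subsingleton _ i₀]
  show _ ≤ (1 : ℚ) * ((a : ℚ) * (α P : ℚ) - ((WFilt.single P hP hP0).nu αE α I i₀ : ℚ) * (αE : ℚ))
  have hn : (((WFilt.single P hP hP0).nu αE α I i₀ : ℕ) : ℚ) ≤ a := by exact_mod_cast nu_le _ αE α I i₀
  nlinarith

theorem sum_single {P : Subobject E} (hP : P ≠ ⊤) (hP0 : ¬ IsZero (P : C)) (f : Subobject E → ℚ) :
    ∑ i, (WFilt.single P hP hP0).wt i * f ((WFilt.single P hP hP0).piece i) = f P := by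
  show ∑ i : Fin 1, (1 : ℚ) * f P = f P
  simp

end GrothLib.DecSh20
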