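import Groth.Agent.Lib.DecSh20.Stability
import Mathlib.Data.Finset.Sort

/-!
# Sectional characterisations of semistable tensor fields
-/

set_option autoImplicit false
set_option linter.style.haveILetI false
set_option linter.unusedSectionVars false
set_option maxHeartbeats 1000000
set_option backward.isDefEq.respectTransparency false

universe v u

open CategoryTheory CategoryTheory.Limits AlgebraicGeometry TopologicalSpace

noncomputable section

namespace GrothLib.DecSh20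

section Generic

variable {C : Type u} [Category.{v} C] {E : C} (𝓕 : DecSh.WFilt E) (αE : ℤ) (α : Subobject E → ℤ) {a : ℕ}
  (N : DecSh.NV E a)

/-- A perturbed semistability inequality: pieces which are very negative may be dropped. -/
theorem sum_add_mu_le (h1 : ∀ i, 1 ≤ α (𝓕.piece i)) (h2 : ∀ i, α (𝓕.piece i) ≤ αE) {δ : ℚ} (hδ : 0 < δ)
    (g g' : Subobject E → ℚ) (Good : Fin 𝓕.t → Prop)
    (hgood : ∀ i, Good i → g' (𝓕.piece i) = g (𝓕.piece i))
    (hbad : ∀ i, ¬ Good i → g' (𝓕.piece i) + δ * a * ((αE : ℚ) - 1) < 0)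
    (hss : ∀ 𝓕₁ : DecSh.WFilt E, (∀ j, ∃ i, 𝓕₁.piece j = 𝓕.piece i) →
      ∑ j, 𝓕₁.wt j * g (𝓕₁.piece j) + δ * 𝓕₁.mu αE α N ≤ 0) :
    ∑ i, 𝓕.wt i * g' (𝓕.piece i) + δ * 𝓕.mu αE α N ≤ 0 ∧
      (∑ i, 𝓕.wt i * g' (𝓕.piece i) + δ * 𝓕.mu αE α N = 0 → ∀ i, Good i) := by
  classical
  let S := Finset.univ.filter fun i => Good i
  have hbad' : ∀ i ∈ Sᶜ, 𝓕.wt i * (g' (𝓕.piece i) + δ * a * ((αE : ℚ) - 1)) < 0 := fun i hi =>
    mul_neg_of_pos_of_neg (𝓕.wt_pos i) (hbad i (by simpa [S] using hi))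
  rcases S.eq_empty_or_nonempty with hS | hS
  · haveI : Nonempty (Fin 𝓕.t) := ⟨⟨0, 𝓕.t_pos⟩⟩
    have hsum : ∑ i, 𝓕.wt i * (g' (𝓕.piece i) + δ * a * ((αE : ℚ) - 1)) < 0 :=
      Finset.sum_neg (fun i _ => hbad' i (by simp [hS])) Finset.univ_nonempty
    have hmu := mul_le_mul_of_nonneg_left ((le_abs_self _).trans (abs_mu_le 𝓕 αE α N h1 h2)) hδ.le
    simp only [mul_add, Finset.sum_add_distrib, ← Finset.sum_mul] at hsum
    have hlt : ∑ i, 𝓕.wt i * g' (𝓕.piece i) + δ * 𝓕.mu αE α N < 0 := by linarith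
    exact ⟨hlt.le, fun h => absurd h hlt.ne⟩
  · let o := S.orderEmbOfFin rfl
    let 𝓕₁ : DecSh.WFilt E :=
      { t := S.card
        t_pos := hS.card_pos
        piece := fun j => 𝓕.piece (o j)
        wt := fun j => 𝓕.wt (o j)
        piece_strictMono := 𝓕.piece_strictMono.comp o.strictMono
        piece_ne_top := fun j => 𝓕.piece_ne_top _
        piece_nonzero := fun j => 𝓕.piece_nonzero _
        wt_pos := fun j => 𝓕.wt_pos _ }
    have h := hss 𝓕₁ fun j => ⟨o j, rfl⟩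
    have hmu := mul_le_mul_of_nonneg_left (mu_le_mu_sub 𝓕 αE α N h1 h2 𝓕₁ o (fun _ => rfl) fun _ => rfl) hδ.le
    have hSum : ∀ f : Fin 𝓕.t → ℚ, ∑ j : Fin S.card, f (o j) = ∑ i ∈ S, f i := fun f => by
      conv_rhs => rw [← Finset.map_orderEmbOfFin_univ S rfl, Finset.sum_map]
      rfl
    have hS1 : ∑ j, 𝓕₁.wt j * g (𝓕₁.piece j) = ∑ i ∈ S, 𝓕.wt i * g' (𝓕.piece i) :=
      (hSum fun i => 𝓕.wt i * g (𝓕.piece i)).trans
        (Finset.sum_congr rfl fun i hi => by rw [hgood i (Finset.mem_filter.1 hi).2])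
    have hS2 : ∑ j, 𝓕₁.wt j = ∑ i ∈ S, 𝓕.wt i := hSum 𝓕.wt
    rw [hS1] at h
    rw [hS2, ← Finset.sum_add_sum_compl S 𝓕.wt] at hmu
    have hle : ∑ i ∈ Sᶜ, 𝓕.wt i * (g' (𝓕.piece i) + δ * a * ((αE : ℚ) - 1)) ≤ 0 :=
      Finset.sum_nonpos fun i hi => (hbad' i hi).le
    simp only [mul_add, Finset.sum_add_distrib, ← Finset.sum_mul] at hle
    rw [← Finset.sum_add_sum_compl S fun i => 𝓕.wt i * g' (𝓕.piece i)]
    refine ⟨by linarith, fun h0 i => ?_⟩
    by_contra hi
    have hlt : ∑ i ∈ Sᶜ, 𝓕.wt i * (g' (𝓕.piece i) + δ * a * ((αE : ℚ) - 1)) < 0 :=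
      Finset.sum_neg hbad' ⟨i, by simpa [S] using hi⟩
    simp only [mul_add, Finset.sum_add_distrib, ← Finset.sum_mul] at hlt
    linarith

end Generic

variable {X : Scheme.{u}} (k : Type u) [Field k] [X.Over (Spec (CommRingCat.of k))]
  [IsProper (X ↘ Spec (CommRingCat.of k))] {L : X.Modules} (hd : topologicalKrullDim X ≤ 1)
  (hL : CohB1.IsAmple L) [Infinite k] {δ : ℚ} (hδ : 0 < δ)

attribute [local irreducible] Curv2.euler

/-- The quotient sectional condition at `m`. -/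
def QuotCond (L : X.Modules) {F D : X.Modules} {a b : ℕ} (T : DecSh.TF F a b D) (α : ℤ) (δ : ℚ) (m : ℕ) : Prop :=
  ∀ 𝓕 : DecSh.WFilt F, (∀ i, Coh.IsCoh ((𝓕.piece i : Subobject F) : X.Modules)) →
    (∑ i, 𝓕.wt i * ((DecSh.mult k X L (cokernel (𝓕.piece i).arrow) : ℚ) *
        (Curv2.euler k X (ShStab.twist X L F m) : ℚ) -
      (α : ℚ) * (Module.finrank k (Coh.HH X (ShStab.twist X L (cokernel (𝓕.piece i).arrow) m) 0) : ℚ))) +
      δ * T.mu k L 𝓕 ≤ 0

include hd hL hδ

/-- A threshold from which the quotient sectional condition bounds submodules. -/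
theorem exists_subLe (α e : ℤ) (a : ℕ) : ∃ (N₁ : ℕ) (B : ℚ), ∀ (F D : X.Modules) (b : ℕ) (T : DecSh.TF F a b D),
    Coh.IsCoh F → ShStab.IsPure X F 1 → DecSh.mult k X L F = α → Curv2.euler k X F = e →
      (T.IsSemistable k L δ ∨ ∃ m, N₁ ≤ m ∧ QuotCond k L T α δ m) → SubLe k F B := by
  obtain ⟨c, hc, hbound⟩ := exists_h0_bound k hd hL
  obtain ⟨N₁, hN₁⟩ := exists_nat_gt (-(((e : ℚ) - δ * a) / α))
  refine ⟨N₁, max (|(e : ℚ)| + δ * a) (|(e : ℚ)| + (α : ℚ) * |((e : ℚ) - δ * a) / α - c|),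
    fun F D b T hF hp hα he hT => ?_⟩
  rcases hT with hT | ⟨m, hm, hT⟩
  · intro G ι hι hG hz
    refine (subLe_of_semistable k hd hL hF hp T hδ hT G ι hι hG hz).trans ?_
    rw [he]
    exact le_max_left _ _
  · intro G ι hι hG hz
    subst hα he
    have hm' : (N₁ : ℚ) ≤ m := Nat.cast_le.2 hm
    exact (subLe_of_quot_sectional k hd hL hF hp T hδ hc hbound (by linarith) hT G ι hι hG hz).trans
      (le_max_right _ _)

/-- For high twists semistability implies the sectional inequality. -/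
theorem exists_sectional (α e : ℤ) (a : ℕ) : ∃ N : ℕ, ∀ m, N ≤ m → ∀ (E D : X.Modules) (b : ℕ)
    (T : DecSh.TF E a b D), Coh.IsCoh E → ShStab.IsPure X E 1 → DecSh.mult k X L E = α → Curv2.euler k X E = e →
      T.IsSemistable k L δ →
      ∀ 𝓕 : DecSh.WFilt E, (∀ i, Coh.IsCoh ((𝓕.piece i : Subobject E) : X.Modules)) →
        (∑ i, 𝓕.wt i * ((α : ℚ) *
            (Module.finrank k (Coh.HH X (ShStab.twist X L ((𝓕.piece i : Subobject E) : X.Modules) m) 0) : ℚ) -
          (DecSh.mult k X L ((𝓕.piece i : Subobject E) : X.Modules) : ℚ) *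
            (Curv2.euler k X (ShStab.twist X L E m) : ℚ))) + δ * T.mu k L 𝓕 ≤ 0 ∧
        ((∑ i, 𝓕.wt i * ((α : ℚ) *
            (Module.finrank k (Coh.HH X (ShStab.twist X L ((𝓕.piece i : Subobject E) : X.Modules) m) 0) : ℚ) -
          (DecSh.mult k X L ((𝓕.piece i : Subobject E) : X.Modules) : ℚ) *
            (Curv2.euler k X (ShStab.twist X L E m) : ℚ))) + δ * T.mu k L 𝓕 = 0 →
          ∀ i, (Module.finrank k (Coh.HH X (ShStab.twist X L ((𝓕.piece i : Subobject E) : X.Modules) m) 0) : ℤ) =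
            Curv2.euler k X (ShStab.twist X L ((𝓕.piece i : Subobject E) : X.Modules) m)) := by
  let M : ℚ := |(α : ℚ)| * |(e : ℚ)| + δ * a * |(α : ℚ)| + 1
  obtain ⟨N, hN⟩ := exists_dichotomy k hd hL α (|(e : ℚ)| + δ * a) M
  refine ⟨N, fun m hm E D b T hE hp hα he hT 𝓕 hcoh => ?_⟩
  have hsub := subLe_of_semistable k hd hL hE hp T hδ hT
  subst hα he
  have h12 := piece_mult k hd hL hE hp 𝓕 hcoh
  let h0 : Subobject E → ℚ := fun P => (Module.finrank k (Coh.HH X (ShStab.twist X L (P : X.Modules) m) 0) : ℚ)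
  obtain ⟨hle, heq⟩ := sum_add_mu_le 𝓕 (DecSh.mult k X L E) (fun P => DecSh.mult k X L (P : X.Modules)) T.nv
    (fun i => (h12 i).1) (fun i => (h12 i).2) hδ
    (fun P => (DecSh.mult k X L E : ℚ) * Curv2.euler k X (P : X.Modules) -
      (DecSh.mult k X L (P : X.Modules) : ℚ) * Curv2.euler k X E)
    (fun P => (DecSh.mult k X L E : ℚ) * h0 P -
      (DecSh.mult k X L (P : X.Modules) : ℚ) * (Curv2.euler k X (ShStab.twist X L E m) : ℚ))
    (fun i => (Module.finrank k (Coh.HH X (ShStab.twist X L ((𝓕.piece i : Subobject E) : X.Modules) m) 0) : ℤ) =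
      Curv2.euler k X (ShStab.twist X L ((𝓕.piece i : Subobject E) : X.Modules) m))
    (fun i hi => by
      have hi' : h0 (𝓕.piece i) = (Curv2.euler k X ((𝓕.piece i : Subobject E) : X.Modules) : ℚ) +
          m * (DecSh.mult k X L ((𝓕.piece i : Subobject E) : X.Modules) : ℚ) := by
        rw [euler_twist k hd hL.1 (hcoh i)] at hi
        have hi2 : ((Module.finrank k (Coh.HH X (ShStab.twist X L ((𝓕.piece i : Subobject E) : X.Modules) m) 0) :
            ℤ) : ℚ) = _ := congrArg (Int.cast : ℤ → ℚ) hi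
        push_cast at hi2
        exact hi2
      simp only [hi', euler_twist k hd hL.1 hE]
      push_cast
      ring)
    (fun i hi => by
      rcases hN m hm ((𝓕.piece i : Subobject E) : X.Modules) (hcoh i) (isPure_of_mono (𝓕.piece i).arrow hp)
        (h12 i).1 (h12 i).2 (subLe_of_mono k (𝓕.piece i).arrow hsub) with h | h
      · exact absurd (h.1.trans (euler_twist k hd hL.1 (hcoh i) m).symm) hi
      · have h1 : (1 : ℚ) ≤ DecSh.mult k X L ((𝓕.piece i : Subobject E) : X.Modules) := by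
          exact_mod_cast (h12 i).1
        have h2 : (DecSh.mult k X L ((𝓕.piece i : Subobject E) : X.Modules) : ℚ) ≤ DecSh.mult k X L E := by
          exact_mod_cast (h12 i).2
        have hA := abs_of_nonneg (show (0 : ℚ) ≤ DecSh.mult k X L E by linarith)
        have hM0 : 0 ≤ M := by positivity
        have h3 := mul_le_mul_of_nonneg_left h (show (0 : ℚ) ≤ DecSh.mult k X L E by linarith)
        have h4 : M ≤ (DecSh.mult k X L E : ℚ) * M := le_mul_of_one_le_left hM0 (h1.trans h2)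
        have h6 : -((DecSh.mult k X L E : ℚ) * |(Curv2.euler k X E : ℚ)|) ≤
            (DecSh.mult k X L ((𝓕.piece i : Subobject E) : X.Modules) : ℚ) * Curv2.euler k X E := by
          have := mul_le_mul_of_nonneg_left (neg_abs_le (Curv2.euler k X E : ℚ)) (zero_le_one.trans h1)
          have := mul_le_mul_of_nonneg_right h2 (abs_nonneg (Curv2.euler k X E : ℚ))
          linarith
        have h7 : 0 ≤ δ * a := by positivity
        simp only [h0, euler_twist k hd hL.1 hE]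
        push_cast
        simp only [M, hA] at h4 h3 ⊢
        linarith)
    (fun 𝓕₁ h₁ => hT 𝓕₁ fun j => by obtain ⟨i, hi⟩ := h₁ j; rw [hi]; exact hcoh i)
  exact ⟨hle, heq⟩

omit hδ in
theorem semistable_of_sectional {E D : X.Modules} {a b : ℕ} (T : DecSh.TF E a b D) (hE : Coh.IsCoh E) (m : ℕ)
    (h : ∀ 𝓕 : DecSh.WFilt E, (∀ i, Coh.IsCoh ((𝓕.piece i : Subobject E) : X.Modules)) →
      (∑ i, 𝓕.wt i * ((DecSh.mult k X L E : ℚ) *
          (Module.finrank k (Coh.HH X (ShStab.twist X L ((𝓕.piece i : Subobject E) : X.Modules) m) 0) : ℚ) -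
        (DecSh.mult k X L ((𝓕.piece i : Subobject E) : X.Modules) : ℚ) *
          (Curv2.euler k X (ShStab.twist X L E m) : ℚ))) + δ * T.mu k L 𝓕 ≤ 0) :
    T.IsSemistable k L δ := by
  intro 𝓕 hcoh
  refine le_trans (add_le_add (Finset.sum_le_sum fun i _ => ?_) le_rfl) (h 𝓕 hcoh)
  refine mul_le_mul_of_nonneg_left ?_ (𝓕.wt_pos i).le
  have hP := hcoh i
  haveI := Euler.isNoetherian_of_proper (X := X) k
  have h1 : (Curv2.euler k X (ShStab.twist X L ((𝓕.piece i : Subobject E) : X.Modules) m) : ℚ) ≤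
      (Module.finrank k (Coh.HH X (ShStab.twist X L ((𝓕.piece i : Subobject E) : X.Modules) m) 0) : ℚ) := by
    exact_mod_cast euler_le_h0 k hd (isCoh_twist hL.1 hP m)
  have h2 : (0 : ℚ) ≤ DecSh.mult k X L E := by exact_mod_cast mult_nonneg k hd hL hE
  have h3 := mul_le_mul_of_nonneg_left h1 h2
  rw [euler_twist k hd hL.1 hE]
  rw [euler_twist k hd hL.1 hP] at h3
  push_cast at h3 ⊢
  linarith

omit hδ in
theorem quotCond_of_semistable {E D : X.Modules} {a b : ℕ} (T : DecSh.TF E a b D) (hE : Coh.IsCoh E) (m : ℕ)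
    (hT : T.IsSemistable k L δ) : QuotCond k L T (DecSh.mult k X L E) δ m := by
  intro 𝓕 hcoh
  refine le_trans (add_le_add (Finset.sum_le_sum fun i _ => ?_) le_rfl) (hT 𝓕 hcoh)
  refine mul_le_mul_of_nonneg_left ?_ (𝓕.wt_pos i).le
  have hP := hcoh i
  haveI := Euler.isNoetherian_of_proper (X := X) k
  have hC := isCoh_cokernel k (𝓕.piece i).arrow hP hE
  have h1 : (Curv2.euler k X (ShStab.twist X L (cokernel (𝓕.piece i).arrow) m) : ℚ) ≤
      (Module.finrank k (Coh.HH X (ShStab.twist X L (cokernel (𝓕.piece i).arrow) m) 0) : ℚ) := by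
    exact_mod_cast euler_le_h0 k hd (isCoh_twist hL.1 hC m)
  have h2 : (0 : ℚ) ≤ DecSh.mult k X L E := by exact_mod_cast mult_nonneg k hd hL hE
  have h3 := mul_le_mul_of_nonneg_left h1 h2
  have e1 : (DecSh.mult k X L E : ℚ) = DecSh.mult k X L ((𝓕.piece i : Subobject E) : X.Modules) +
      DecSh.mult k X L (cokernel (𝓕.piece i).arrow) := by
    exact_mod_cast mult_cokernel k hL.1 (𝓕.piece i).arrow hP hE
  have e2 : (Curv2.euler k X E : ℚ) = Curv2.euler k X ((𝓕.piece i : Subobject E) : X.Modules) +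
      Curv2.euler k X (cokernel (𝓕.piece i).arrow) := by
    exact_mod_cast euler_cokernel k (𝓕.piece i).arrow hP hE
  rw [euler_twist k hd hL.1 hE]
  rw [euler_twist k hd hL.1 hC] at h3
  push_cast at h3 ⊢
  rw [show (DecSh.mult k X L (cokernel (𝓕.piece i).arrow) : ℚ) =
      DecSh.mult k X L E - DecSh.mult k X L ((𝓕.piece i : Subobject E) : X.Modules) by linarith] at h3 ⊢
  rw [show (Curv2.euler k X (cokernel (𝓕.piece i).arrow) : ℚ) =
      Curv2.euler k X E - Curv2.euler k X ((𝓕.piece i : Subobject E) : X.Modules) by linarith] at h3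
  linarith

omit hδ in
include k in
theorem subsingleton_twist_cokernel {E P : X.Modules} (ι : P ⟶ E) [Mono ι] (hP : Coh.IsCoh P) (m : ℕ)
    (h : Subsingleton (Coh.HH X (ShStab.twist X L E m) 1)) :
    Subsingleton (Coh.HH X (ShStab.twist X L (cokernel ι) m) 1) := by
  haveI := Euler.isNoetherian_of_proper (X := X) k
  have hS := OX.tensor_map_shortExact (OX.flat_of_isFinLocFree
    (Euler.isFinLocFree_of_isInvertible (Ample.isInvertible_tensorPow hL.1 m))) (shortExact_cokernel ι)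
  haveI : (ShStab.twist X L P m).IsQuasicoherent := (isCoh_twist hL.1 hP m).1
  haveI h2 : Subsingleton (Coh.HH X (((ShortComplex.mk ι (cokernel.π ι) (cokernel.condition ι)).map
      (Euler.tF (CohB1.tensorPow L m))).X₁) 2) :=
    Euler.subsingleton_HH_of_two_le k hd (ShStab.twist X L P m) 2 le_rfl
  haveI h1 : Subsingleton (Coh.HH X (((ShortComplex.mk ι (cokernel.π ι) (cokernel.condition ι)).map
      (Euler.tF (CohB1.tensorPow L m))).X₂) 1) := h
  refine ⟨fun x y => ?_⟩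
  obtain ⟨x', rfl⟩ := ((Cohom.exact₃ (A := k) hS 1) x).1 (Subsingleton.elim _ _)
  obtain ⟨y', rfl⟩ := ((Cohom.exact₃ (A := k) hS 1) y).1 (Subsingleton.elim _ _)
  rw [Subsingleton.elim x' y']

omit hδ in
theorem semistable_of_quotCond {E D : X.Modules} {a b : ℕ} (T : DecSh.TF E a b D) (hE : Coh.IsCoh E) (m : ℕ)
    (hH : Subsingleton (Coh.HH X (ShStab.twist X L E m) 1))
    (h : QuotCond k L T (DecSh.mult k X L E) δ m) : T.IsSemistable k L δ := by
  intro 𝓕 hcoh
  refine le_trans (le_of_eq ?_) (h 𝓕 hcoh)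
  congr 1
  refine Finset.sum_congr rfl fun i _ => ?_
  have hP := hcoh i
  haveI := Euler.isNoetherian_of_proper (X := X) k
  have hC := isCoh_cokernel k (𝓕.piece i).arrow hP hE
  have h1 : (Module.finrank k (Coh.HH X (ShStab.twist X L (cokernel (𝓕.piece i).arrow) m) 0) : ℚ) =
      (Curv2.euler k X (cokernel (𝓕.piece i).arrow) : ℚ) +
        m * (DecSh.mult k X L (cokernel (𝓕.piece i).arrow) : ℚ) := by
    have := euler_eq_h0 k hd (isCoh_twist hL.1 hC m)
      (subsingleton_twist_cokernel k hd hL (𝓕.piece i).arrow hP m hH)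
    rw [euler_twist k hd hL.1 hC] at this
    exact_mod_cast this
  have e1 : (DecSh.mult k X L E : ℚ) = DecSh.mult k X L ((𝓕.piece i : Subobject E) : X.Modules) +
      DecSh.mult k X L (cokernel (𝓕.piece i).arrow) := by
    exact_mod_cast mult_cokernel k hL.1 (𝓕.piece i).arrow hP hE
  have e2 : (Curv2.euler k X E : ℚ) = Curv2.euler k X ((𝓕.piece i : Subobject E) : X.Modules) +
      Curv2.euler k X (cokernel (𝓕.piece i).arrow) := by
    exact_mod_cast euler_cokernel k (𝓕.piece i).arrow hP hE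
  rw [h1, euler_twist k hd hL.1 hE]
  push_cast
  rw [show (DecSh.mult k X L (cokernel (𝓕.piece i).arrow) : ℚ) =
      DecSh.mult k X L E - DecSh.mult k X L ((𝓕.piece i : Subobject E) : X.Modules) by linarith,
    show (Curv2.euler k X (cokernel (𝓕.piece i).arrow) : ℚ) =
      Curv2.euler k X E - Curv2.euler k X ((𝓕.piece i : Subobject E) : X.Modules) by linarith]
  ring

end GrothLib.DecSh20
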