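import Groth.Agent.Lib.DecSh20.MinSlope
import Groth.Agent.Lib.DecSh20.Embed
import Groth.Agent.Lib.BddFam20.CurveGen
import Groth.Agent.Lib.Ample.Criterion

/-!
# Sections of high twists of modules with bounded submodules
-/

set_option autoImplicit false
set_option linter.style.haveILetI false
set_option linter.unusedSectionVars false
set_option maxHeartbeats 1000000
set_option backward.isDefEq.respectTransparency false

universe u

open CategoryTheory CategoryTheory.Limits AlgebraicGeometry TopologicalSpace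
open Polynomial (C eval)
open GrothLib.CMReg
open GrothLib.Snapper (DimLT)

noncomputable section

namespace GrothLib.DecSh20

variable {X : Scheme.{u}} (k : Type u) [Field k] [X.Over (Spec (CommRingCat.of k))]
  [IsProper (X ↘ Spec (CommRingCat.of k))] {L : X.Modules} (hd : topologicalKrullDim X ≤ 1)

attribute [local irreducible] Curv2.euler

section Embedded

variable {M : ℕ} (i : X ⟶ CohB1.ProjSpace M k) [IsClosedImmersion i]
  (hi : i ≫ CohB1.ProjSpace.toSpec M k = X ↘ Spec (CommRingCat.of k))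
  (hL : Nonempty (L ≅ (Scheme.Modules.pullback i).obj (Twist.twistProjSpace M k 1)))

include hi hL in
theorem finrank_twist_eq (hinv : PicF.IsInvertible L) {G : X.Modules} (hG : Coh.IsCoh G) (q j : ℕ) :
    Module.finrank k (Coh.HH X (ShStab.twist X L G q) j) =
      Module.finrank k (Coh.HH (CohB1.ProjSpace M k) (Ft ((Scheme.Modules.pushforward i).obj G) (q : ℤ)) j) := by
  haveI := Euler.isNoetherian_of_proper (X := X) k
  haveI : (ShStab.twist X L G q).IsQuasicoherent := (isCoh_twist hinv hG q).1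
  obtain ⟨e⟩ := Snapper.nonempty_HH_linearEquiv_pushforward (A := k) i hi (ShStab.twist X L G q) j
  obtain ⟨g⟩ := Regularity.nonempty_push_twist i hL G q
  exact (e.trans (Euler.hhEquiv (A := k) g j)).finrank_eq

end Embedded

/-- `F` is coherent, pure, with given invariants and bounded submodules. -/
def InFam (L F : X.Modules) (α χ : ℤ) (C : ℚ) : Prop :=
  Coh.IsCoh F ∧ ShStab.IsPure X F 1 ∧ DecSh.mult k X L F = α ∧ Curv2.euler k X F = χ ∧ SubLe k F C

variable (hL : CohB1.IsAmple L)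
include hd hL

/-- Sections of the twists of a module of bounded slopes. -/
theorem exists_h0_bound [Infinite k] : ∃ c : ℚ, 0 ≤ c ∧ ∀ F : X.Modules, Coh.IsCoh F → ShStab.IsPure X F 1 →
    ∀ μ : ℚ, SlopeLe k L F μ → ∀ n : ℕ, (Module.finrank k (Coh.HH X (ShStab.twist X L F n) 0) : ℚ) ≤
      (DecSh.mult k X L F : ℚ) * max 0 ((n : ℚ) + μ + c) := by
  obtain ⟨r, M, i, hr, hi, hib, hiso⟩ := exists_embedding k hL
  haveI := hi
  haveI := Euler.isNoetherian_of_proper (X := X) k
  let L' := CohB1.tensorPow L r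
  have hL' : CohB1.IsAmple L' := (Ample.isAmple_tensorPow_iff hL.1 hr).mp hL
  let c0 : ℚ := Module.finrank k (Coh.HH (CohB1.ProjSpace M k)
    (Ft ((Scheme.Modules.pushforward i).obj (Coh.structureModule X)) 0) 1)
  have hc0 : 0 ≤ c0 := Nat.cast_nonneg _
  refine ⟨c0 + 1 + r, by positivity, fun F hF hp μ hμ n => ?_⟩
  obtain ⟨s, hs, q, rfl⟩ : ∃ s, s < r ∧ ∃ q, n = s + r * q :=
    ⟨n % r, Nat.mod_lt _ hr, n / r, (Nat.mod_add_div n r).symm⟩
  let F' := ShStab.twist X L F s
  have hF' : Coh.IsCoh F' := isCoh_twist hL.1 hF s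
  have hp' : ShStab.IsPure X F' 1 := isPure_twist k hd hL.1 hp s
  have hμ' : SlopeLe k L F' (μ + s) := slopeLe_twist k hd hL.1 hμ s
  obtain ⟨e1⟩ := nonempty_twist_pow L F' r q
  obtain ⟨e2⟩ := nonempty_twist_twist L F s (r * q)
  rw [← (Euler.hhEquiv (A := k) (e1 ≪≫ e2) 0).finrank_eq, finrank_twist_eq k i hib hiso hL'.1 hF']
  have hr' : (0 : ℚ) < r := by exact_mod_cast hr
  let j : ℤ := min (q : ℤ) ⌊-(μ + s + c0 + 1) / (r : ℚ)⌋
  have hj : (j : ℚ) * r + μ + s + c0 + 1 ≤ 0 := by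
    have h1 : (j : ℚ) ≤ -(μ + s + c0 + 1) / (r : ℚ) :=
      le_trans (by exact_mod_cast min_le_right _ _) (Int.floor_le _)
    rw [le_div_iff₀ hr'] at h1
    linarith
  have h0 := BddFam20.h0_eq_zero_of_eval i hib hiso hd hL' hF' hp' (j := j) fun G ι hι hG hz Q hQ => by
    haveI := hι
    rw [Hilb20.isHilbPoly_unique hQ (isHilbPoly_linear k hd hL'.1 hG), eval_linear, mult_pow k hd hL.1 hG]
    have h1 := hμ' G ι hι hG hz
    have h2 : (1 : ℚ) ≤ DecSh.mult k X L G := by exact_mod_cast one_le_mult k hd hL hp' ι hG hz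
    push_cast
    change _ + c0 < 0
    nlinarith
  obtain ⟨d, hd'⟩ : ∃ d : ℕ, (q : ℤ) = j + d :=
    ⟨((q : ℤ) - j).toNat, by have := min_le_left (q : ℤ) ⌊-(μ + s + c0 + 1) / (r : ℚ)⌋; omega⟩
  rw [hd']
  refine (BddFam20.h0_le_linear i hib hiso hd hL' hF' hp' (isHilbPoly_linear k hd hL'.1 hF') h0 d).trans ?_
  rw [alpha_linear, mult_pow k hd hL.1 hF', mult_twist k hd hL.1 hF]
  have hα : (0 : ℚ) ≤ DecSh.mult k X L F := by exact_mod_cast mult_nonneg k hd hL hF
  have hdr : (d : ℚ) * r ≤ max 0 (((s + r * q : ℕ) : ℚ) + μ + (c0 + 1 + r)) := by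
    have hq : (d : ℚ) = q - j := by
      have := congrArg (Int.cast : ℤ → ℚ) hd'
      push_cast at this
      linarith
    rcases le_total (q : ℤ) ⌊-(μ + s + c0 + 1) / (r : ℚ)⌋ with h | h
    · have : (d : ℚ) = 0 := by
        rw [hq, show j = (q : ℤ) from min_eq_left h]
        simp
      rw [this, zero_mul]
      exact le_max_left _ _
    · refine le_trans ?_ (le_max_right _ _)
      have h1 : -(μ + s + c0 + 1) / (r : ℚ) < (j : ℚ) + 1 := by
        rw [show j = ⌊-(μ + s + c0 + 1) / (r : ℚ)⌋ from min_eq_right h]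
        exact Int.lt_floor_add_one _
      rw [div_lt_iff₀ hr'] at h1
      rw [hq]
      push_cast
      nlinarith
  push_cast at hdr ⊢
  nlinarith

/-- Modules with given invariants and bounded submodules are uniformly regular. -/
theorem exists_regular [Infinite k] (α χ : ℤ) (B : ℚ) : ∃ N : ℕ, ∀ n : ℕ, N ≤ n → ∀ F : X.Modules,
    InFam k L F α χ B → Subsingleton (Coh.HH X (ShStab.twist X L F n) 1) ∧
      Curv2.IsGloballyGenerated (ShStab.twist X L F n) := by
  obtain ⟨r, M, i, hr, hi, hib, hiso⟩ := exists_embedding k hL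
  haveI := hi
  haveI := Euler.isNoetherian_of_proper (X := X) k
  let L' := CohB1.tensorPow L r
  have hL' : CohB1.IsAmple L' := (Ample.isAmple_tensorPow_iff hL.1 hr).mp hL
  choose m hm using fun s : ℕ => BddFam20.exists_regular_bound i hib hiso hd hL'
    (C ((r : ℚ) * α) * Polynomial.X + C ((χ : ℚ) + s * α)) (B + s * α)
  refine ⟨r * ((Finset.range r).sup fun s => (m s).toNat) + r, fun n hn F ⟨hF, hp, hα, hχ, hB⟩ => ?_⟩
  obtain ⟨s, hs, q, rfl⟩ : ∃ s, s < r ∧ ∃ q, n = s + r * q :=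
    ⟨n % r, Nat.mod_lt _ hr, n / r, (Nat.mod_add_div n r).symm⟩
  have hq : m s ≤ (q : ℤ) := by
    have h1 : (m s).toNat ≤ (Finset.range r).sup fun s => (m s).toNat :=
      Finset.le_sup (f := fun s => (m s).toNat) (Finset.mem_range.2 hs)
    have h2 : r * ((Finset.range r).sup fun s => (m s).toNat) < r * (q + 1) := by
      rw [Nat.mul_succ]; omega
    have h3 := Nat.lt_of_mul_lt_mul_left h2
    omega
  let F' := ShStab.twist X L F s
  have hF' : Coh.IsCoh F' := isCoh_twist hL.1 hF s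
  have hP : ShStab.IsHilbPoly k X L' F' (C ((r : ℚ) * α) * Polynomial.X + C ((χ : ℚ) + s * α)) := by
    have h := isHilbPoly_linear k hd hL'.1 hF'
    rw [mult_pow k hd hL.1 hF', mult_twist k hd hL.1 hF, euler_twist k hd hL.1 hF, hα, hχ] at h
    push_cast at h
    exact h
  have hreg := hm s F' hF' (isPure_twist k hd hL.1 hp s) hP fun G ι hι hG hz Q hQ => by
    have h := subLe_twist k hd hL hF hB s G ι hι hG hz
    rw [Hilb20.isHilbPoly_unique hQ (isHilbPoly_linear k hd hL'.1 hG), eval_linear]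
    rw [hα] at h
    simpa using h
  have hG' : Coh.IsCoh ((Scheme.Modules.pushforward i).obj F') := FormalExist7.isCoh_pushforward i hF'
  obtain ⟨e1⟩ := nonempty_twist_pow L F' r q
  obtain ⟨e2⟩ := nonempty_twist_twist L F s (r * q)
  constructor
  · haveI := propagate hG' (m s) hreg 1 (q : ℤ) le_rfl (by omega)
    exact subsingleton_of_iso (e1 ≪≫ e2) (Regularity.subsingleton_twist i hiso hib hF' q 1 this)
  · obtain ⟨g⟩ := Regularity.nonempty_push_twist i hiso F' q
    have h := (spanned_of_regular hG' (m s) hreg (q : ℤ) hq).of_iso g.symm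
    exact Ample.isGloballyGenerated_of_iso (e1 ≪≫ e2)
      (UnifVanish7.stalkSpanned_of_local (Regularity.spanned_of_push i h)).isGloballyGenerated

/-- Modules with finitely many invariants and bounded submodules form a bounded family. -/
theorem isBounded_fam [Infinite k] (s : Set (ℤ × ℤ)) (hs : s.Finite) (B : ℚ) :
    Pic13.IsBounded k X (fun F => ∃ p ∈ s, InFam k L F p.1 p.2 B) := by
  obtain ⟨r, M, i, hr, hi, hib, hiso⟩ := exists_embedding k hL
  haveI := hi
  let L' := CohB1.tensorPow L r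
  have hL' : CohB1.IsAmple L' := (Ample.isAmple_tensorPow_iff hL.1 hr).mp hL
  refine BddFam20.isBounded_mono (BddFam20.isBounded_of_sub_bound i hib hiso hd hL'
    ((fun p : ℤ × ℤ => C ((r : ℚ) * p.1) * Polynomial.X + C (p.2 : ℚ)) '' s) (hs.image _) B) ?_
  rintro F ⟨p, hps, hF, hp, hα, hχ, hB⟩
  refine ⟨hF, hp, ⟨_, ⟨p, hps, rfl⟩, ?_⟩, fun G ι hι hG hz Q hQ => ?_⟩
  · have h := isHilbPoly_linear k hd hL'.1 hF
    rw [mult_pow k hd hL.1 hF, hα, hχ] at h
    push_cast at h
    exact h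
  · rw [Hilb20.isHilbPoly_unique hQ (isHilbPoly_linear k hd hL'.1 hG), eval_linear]
    simpa using hB G ι hι hG hz

/-- A high twist of a module with bounded submodules has no higher cohomology or few sections. -/
theorem exists_dichotomy [Infinite k] (α : ℤ) (B D : ℚ) : ∃ N : ℕ, ∀ n : ℕ, N ≤ n → ∀ F : X.Modules,
    Coh.IsCoh F → ShStab.IsPure X F 1 → 1 ≤ DecSh.mult k X L F → DecSh.mult k X L F ≤ α → SubLe k F B →
      ((Module.finrank k (Coh.HH X (ShStab.twist X L F n) 0) : ℤ) =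
          Curv2.euler k X F + n * DecSh.mult k X L F ∧ Subsingleton (Coh.HH X (ShStab.twist X L F n) 1)) ∨
      (Module.finrank k (Coh.HH X (ShStab.twist X L F n) 0) : ℚ) ≤ n * (DecSh.mult k X L F : ℚ) - D := by
  classical
  obtain ⟨c, hc, hbound⟩ := exists_h0_bound k hd hL
  let B' : ℚ := max B 0
  let W : ℚ := (α : ℚ) * (B' + c) + |D|
  let K : ℚ := |(α : ℚ)| * (W + |(α : ℚ)| * c) + 1
  choose N hN using fun p : ℤ × ℤ => exists_regular k hd hL p.1 p.2 B
  obtain ⟨N1, hN1⟩ := exists_nat_gt W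
  refine ⟨max (((Finset.Icc 1 α) ×ˢ (Finset.Icc (-⌈K⌉) ⌈B⌉)).sup N) N1,
    fun n hn F hF hp h1 hα hB => ?_⟩
  haveI := Euler.isNoetherian_of_proper (X := X) k
  have hFB : (Curv2.euler k X F : ℚ) ≤ B := by
    refine hB F (𝟙 F) inferInstance hF fun hz => ?_
    rw [mult_zero k hz] at h1
    omega
  by_cases hK : -⌈K⌉ ≤ Curv2.euler k X F
  · refine Or.inl ?_
    have hmem : (DecSh.mult k X L F, Curv2.euler k X F) ∈ (Finset.Icc 1 α) ×ˢ (Finset.Icc (-⌈K⌉) ⌈B⌉) := by
      simp only [Finset.mem_product, Finset.mem_Icc]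
      exact ⟨⟨h1, hα⟩, hK, by exact_mod_cast hFB.trans (Int.le_ceil B)⟩
    have h := (hN _ n ((Finset.le_sup hmem).trans ((le_max_left _ _).trans hn)) F ⟨hF, hp, rfl, rfl, hB⟩).1
    refine ⟨?_, h⟩
    rw [euler_eq_h0 k hd (isCoh_twist hL.1 hF n) h, euler_twist k hd hL.1 hF]
  refine Or.inr ?_
  have hχ : (Curv2.euler k X F : ℚ) < -K := by
    have : (Curv2.euler k X F : ℚ) ≤ -(⌈K⌉ : ℚ) - 1 := by
      exact_mod_cast (show Curv2.euler k X F ≤ -⌈K⌉ - 1 by omega)
    linarith [Int.le_ceil K]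
  obtain ⟨Q, p, hpe, hQ, hQ1, hQp, hQs, hmin⟩ := exists_min_quotient k hd hL hF h1
  haveI := hpe
  set μ : ℚ := (Curv2.euler k X Q : ℚ) / DecSh.mult k X L Q with hμ
  have hμF := hmin F (𝟙 F) inferInstance hF h1
  have hK1 := isCoh_kernel k p hF hQ
  have e2 := mult_kernel k hL.1 p hF hQ
  have hm1 := mult_nonneg k hd hL hK1
  have hs1 : SlopeLe k L (kernel p) B' :=
    slopeLe_of_subLe k hd hL (isPure_of_mono (kernel.ι p) hp) (subLe_of_mono k (kernel.ι p) hB)
  have b1 := hbound (kernel p) hK1 (isPure_of_mono (kernel.ι p) hp) B' hs1 n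
  have b2 := hbound Q hQ hQp μ hQs n
  have hS : ((ShortComplex.mk (kernel.ι p) p (kernel.condition p)).map
      (Euler.tF (CohB1.tensorPow L n))).ShortExact :=
    OX.tensor_map_shortExact (OX.flat_of_isFinLocFree
      (Euler.isFinLocFree_of_isInvertible (Ample.isInvertible_tensorPow hL.1 n))) (shortExact_kernel k p)
  have b3 : (Module.finrank k (Coh.HH X (ShStab.twist X L F n) 0) : ℚ) ≤
      Module.finrank k (Coh.HH X (ShStab.twist X L (kernel p) n) 0) +
        Module.finrank k (Coh.HH X (ShStab.twist X L Q n) 0) := by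
    exact_mod_cast finrank_h0_le_add k (S := (ShortComplex.mk (kernel.ι p) p (kernel.condition p)).map
      (Euler.tF (CohB1.tensorPow L n))) hS (isCoh_twist hL.1 hK1 n) (isCoh_twist hL.1 hF n) (isCoh_twist hL.1 hQ n)
  have hB0 : 0 ≤ B' := le_max_right B 0
  have hn0 : (0 : ℚ) ≤ n := Nat.cast_nonneg n
  rw [max_eq_right (by linarith)] at b1
  generalize Curv2.euler k X F = χF at hχ hμF ⊢
  generalize DecSh.mult k X L F = a at h1 hα e2 hμF ⊢
  generalize DecSh.mult k X L (kernel p) = a1 at e2 hm1 b1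
  generalize DecSh.mult k X L Q = aQ at hQ1 e2 b2
  clear_value μ
  have ha : (a : ℚ) = (a1 : ℚ) + (aQ : ℚ) := by exact_mod_cast e2
  have ha1 : (1 : ℚ) ≤ a := by exact_mod_cast h1
  have haα : (a : ℚ) ≤ α := by exact_mod_cast hα
  have hq1 : (1 : ℚ) ≤ aQ := by exact_mod_cast hQ1
  have hm1' : (0 : ℚ) ≤ a1 := by exact_mod_cast hm1
  have hD : D ≤ |D| := le_abs_self D
  have hWn : W < n := lt_of_lt_of_le hN1 (by exact_mod_cast (le_max_right _ _).trans hn)
  rcases le_total ((n : ℚ) + μ + c) 0 with h | h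
  · rw [max_eq_left h] at b2
    nlinarith
  · rw [max_eq_right h] at b2
    have hKα : K = (α : ℚ) * (W + (α : ℚ) * c) + 1 := by
      simp only [K]
      rw [abs_of_nonneg (by linarith : (0 : ℚ) ≤ α)]
    have hW0 : 0 ≤ W := by
      simp only [W]
      nlinarith [abs_nonneg D]
    have hμ' : μ ≤ -(W + (α : ℚ) * c) := by
      refine hμF.trans ?_
      rw [div_le_iff₀ (by linarith)]
      have h0 : 0 ≤ W + (α : ℚ) * c := by nlinarith
      have h1 := mul_le_mul_of_nonneg_right haα h0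
      generalize hWc : W + (α : ℚ) * c = T at h1 hKα ⊢
      calc (χF : ℚ) ≤ -K := hχ.le
        _ ≤ -((α : ℚ) * T) := by rw [hKα]; linarith
        _ ≤ -T * (a : ℚ) := by linarith
    have h5 : (aQ : ℚ) * (μ + c) ≤ -W := by
      have h6 : c ≤ (α : ℚ) * c := le_mul_of_one_le_left hc (ha1.trans haα)
      have h7 : μ + c ≤ -W := by linarith
      have h8 := mul_le_mul_of_nonpos_right hq1 (h7.trans (neg_nonpos.2 hW0))
      linarith
    have h9 : (a1 : ℚ) * (B' + c) ≤ (α : ℚ) * (B' + c) :=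
      mul_le_mul_of_nonneg_right (by linarith) (by linarith)
    simp only [W] at h5
    nlinarith

end GrothLib.DecSh20
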