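import Groth.Agent.Lib.DecSh20.Numeric
import Groth.Agent.Lib.DecSh20.Sections

/-!
# Bounds on submodules of semistable tensor fields
-/

set_option autoImplicit false
set_option linter.style.haveILetI false
set_option linter.unusedSectionVars false
set_option maxHeartbeats 1000000
set_option backward.isDefEq.respectTransparency false

universe u

open CategoryTheory CategoryTheory.Limits AlgebraicGeometry TopologicalSpace

noncomputable section

namespace GrothLib.DecSh20

variable {X : Scheme.{u}} (k : Type u) [Field k] [X.Over (Spec (CommRingCat.of k))]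
  [IsProper (X ↘ Spec (CommRingCat.of k))] {L : X.Modules}

attribute [local irreducible] Curv2.euler

section Mono

variable {E F : X.Modules} (ι : F ⟶ E) [Mono ι]

omit [X.Over (Spec (CommRingCat.of k))] [IsProper (X ↘ Spec (CommRingCat.of k))] in
theorem mk_ne_top (hι : ¬ IsIso ι) : Subobject.mk ι ≠ ⊤ :=
  fun h => hι ((Subobject.isIso_iff_mk_eq_top ι).2 h)

omit [X.Over (Spec (CommRingCat.of k))] [IsProper (X ↘ Spec (CommRingCat.of k))] in
theorem mk_nonzero (hz : ¬ IsZero F) : ¬ IsZero (Subobject.mk ι : X.Modules) :=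
  fun h => hz (h.of_iso (Subobject.underlyingIso ι).symm)

omit [X.Over (Spec (CommRingCat.of k))] [IsProper (X ↘ Spec (CommRingCat.of k))] in
theorem isCoh_mk (hF : Coh.IsCoh F) : Coh.IsCoh (Subobject.mk ι : X.Modules) :=
  QCoh.isCoh_of_iso (Subobject.underlyingIso ι).symm hF

def cokernelMkArrowIso : cokernel (Subobject.mk ι).arrow ≅ cokernel ι :=
  cokernel.mapIso _ ι (Subobject.underlyingIso ι) (Iso.refl E) (by simp)

end Mono

variable (hd : topologicalKrullDim X ≤ 1) (hL : CohB1.IsAmple L) {E : X.Modules} (hE : Coh.IsCoh E)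
  (hp : ShStab.IsPure X E 1)
include hd hL hE hp

theorem piece_mult (𝓕 : DecSh.WFilt E) (hcoh : ∀ i, Coh.IsCoh ((𝓕.piece i : Subobject E) : X.Modules))
    (i : Fin 𝓕.t) : 1 ≤ DecSh.mult k X L (𝓕.piece i : X.Modules) ∧
      DecSh.mult k X L (𝓕.piece i : X.Modules) ≤ DecSh.mult k X L E :=
  ⟨one_le_mult k hd hL hp (𝓕.piece i).arrow (hcoh i) (𝓕.piece_nonzero i),
    mult_le_of_mono k hd hL (𝓕.piece i).arrow (hcoh i) hE⟩

variable {D : X.Modules} {a b : ℕ} (T : DecSh.TF E a b D)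

theorem abs_mu_le' (𝓕 : DecSh.WFilt E) (hcoh : ∀ i, Coh.IsCoh ((𝓕.piece i : Subobject E) : X.Modules)) :
    |T.mu k L 𝓕| ≤ (∑ i, 𝓕.wt i) * (a : ℚ) * ((DecSh.mult k X L E : ℚ) - 1) :=
  abs_mu_le 𝓕 _ _ T.nv (fun i => (piece_mult k hd hL hE hp 𝓕 hcoh i).1)
    fun i => (piece_mult k hd hL hE hp 𝓕 hcoh i).2

omit hp in
theorem euler_sub_le {δ : ℚ} (hδ : 0 < δ) (hT : T.IsSemistable k L δ) {F : X.Modules} (ι : F ⟶ E) [Mono ι]
    (hF : Coh.IsCoh F) (hz : ¬ IsZero F) (hι : ¬ IsIso ι) :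
    (DecSh.mult k X L E : ℚ) * Curv2.euler k X F - (DecSh.mult k X L F : ℚ) * Curv2.euler k X E ≤
      δ * a * ((DecSh.mult k X L E : ℚ) - DecSh.mult k X L F) := by
  let 𝓕 := DecSh.WFilt.single (Subobject.mk ι) (mk_ne_top ι hι) (mk_nonzero ι hz)
  have h := hT 𝓕 fun i => isCoh_mk ι hF
  have hs := sum_single (mk_ne_top ι hι) (mk_nonzero ι hz) fun P : Subobject E =>
    (DecSh.mult k X L E : ℚ) * (Curv2.euler k X (P : X.Modules) : ℚ) -
      (DecSh.mult k X L (P : X.Modules) : ℚ) * (Curv2.euler k X E : ℚ)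
  have hmu := mu_single_ge (DecSh.mult k X L E) (fun P => DecSh.mult k X L (P : X.Modules)) (Subobject.mk ι)
    (mk_ne_top ι hι) (mk_nonzero ι hz) T.nv (mult_nonneg k hd hL hE)
  rw [DecSh.WFilt.msum, hs, Euler.euler_of_iso k (Subobject.underlyingIso ι),
    mult_of_iso k L (Subobject.underlyingIso ι)] at h
  rw [mult_of_iso k L (Subobject.underlyingIso ι)] at hmu
  have := mul_le_mul_of_nonneg_left hmu hδ.le
  linarith

theorem subLe_of_semistable {δ : ℚ} (hδ : 0 < δ) (hT : T.IsSemistable k L δ) :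
    SubLe k E (|(Curv2.euler k X E : ℚ)| + δ * a) := by
  intro G ι hι hG hz
  haveI := hι
  have ha : (0 : ℚ) ≤ δ * a := by positivity
  have h1 : (1 : ℚ) ≤ DecSh.mult k X L G := by exact_mod_cast one_le_mult k hd hL hp ι hG hz
  have h2 : (DecSh.mult k X L G : ℚ) ≤ DecSh.mult k X L E := by exact_mod_cast mult_le_of_mono k hd hL ι hG hE
  by_cases hi : IsIso ι
  · rw [Euler.euler_of_iso k (asIso ι)]
    linarith [le_abs_self (Curv2.euler k X E : ℚ)]
  · have h := euler_sub_le k hd hL hE T hδ hT ι hG hz hi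
    refine le_of_mul_le_mul_left ?_ (lt_of_lt_of_le zero_lt_one (h1.trans h2))
    have h3 : (DecSh.mult k X L G : ℚ) * Curv2.euler k X E ≤
        (DecSh.mult k X L E : ℚ) * |(Curv2.euler k X E : ℚ)| :=
      (mul_le_mul_of_nonneg_left (le_abs_self _) (by linarith)).trans
        (mul_le_mul_of_nonneg_right h2 (abs_nonneg _))
    have h4 : 0 ≤ δ * a * (DecSh.mult k X L G : ℚ) := mul_nonneg ha (by linarith)
    linarith

omit hp in
/-- The quotient sectional condition bounds the sections of quotients from below. -/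
theorem le_h0_cokernel {δ : ℚ} (hδ : 0 < δ) {m : ℕ}
    (hq : ∀ 𝓕 : DecSh.WFilt E, (∀ i, Coh.IsCoh ((𝓕.piece i : Subobject E) : X.Modules)) →
      (∑ i, 𝓕.wt i * ((DecSh.mult k X L (cokernel (𝓕.piece i).arrow) : ℚ) *
          (Curv2.euler k X (ShStab.twist X L E m) : ℚ) -
        (DecSh.mult k X L E : ℚ) *
          (Module.finrank k (Coh.HH X (ShStab.twist X L (cokernel (𝓕.piece i).arrow) m) 0) : ℚ))) +
        δ * T.mu k L 𝓕 ≤ 0)
    {F : X.Modules} (ι : F ⟶ E) [Mono ι] (hF : Coh.IsCoh F) (hz : ¬ IsZero F) (hι : ¬ IsIso ι) :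
    (DecSh.mult k X L (cokernel ι) : ℚ) *
        ((Curv2.euler k X E : ℚ) + m * (DecSh.mult k X L E : ℚ) - δ * a) ≤
      (DecSh.mult k X L E : ℚ) * (Module.finrank k (Coh.HH X (ShStab.twist X L (cokernel ι) m) 0) : ℚ) := by
  let 𝓕 := DecSh.WFilt.single (Subobject.mk ι) (mk_ne_top ι hι) (mk_nonzero ι hz)
  have h := hq 𝓕 fun i => isCoh_mk ι hF
  have hs := sum_single (mk_ne_top ι hι) (mk_nonzero ι hz) fun P : Subobject E =>
    (DecSh.mult k X L (cokernel P.arrow) : ℚ) *
        (Curv2.euler k X (ShStab.twist X L E m) : ℚ) -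
      (DecSh.mult k X L E : ℚ) * (Module.finrank k (Coh.HH X (ShStab.twist X L (cokernel P.arrow) m) 0) : ℚ)
  have hmu := mu_single_ge (DecSh.mult k X L E) (fun P => DecSh.mult k X L (P : X.Modules)) (Subobject.mk ι)
    (mk_ne_top ι hι) (mk_nonzero ι hz) T.nv (mult_nonneg k hd hL hE)
  rw [hs, mult_of_iso k L (cokernelMkArrowIso ι), euler_twist k hd hL.1 hE,
    (Euler.hhEquiv (A := k) (show ShStab.twist X L (cokernel (Subobject.mk ι).arrow) m ≅
      ShStab.twist X L (cokernel ι) m from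
        Ample.LineData.tensorModMapIso (cokernelMkArrowIso ι) (Iso.refl _)) 0).finrank_eq] at h
  rw [mult_of_iso k L (Subobject.underlyingIso ι)] at hmu
  have h2 : (DecSh.mult k X L E : ℚ) = DecSh.mult k X L F + DecSh.mult k X L (cokernel ι) := by
    exact_mod_cast mult_cokernel k hL.1 ι hF hE
  push_cast at h
  have h3 := mul_le_mul_of_nonneg_left hmu hδ.le
  change δ * _ ≤ δ * T.mu k L 𝓕 at h3
  have h4 : δ * ((a : ℚ) * ((DecSh.mult k X L F : ℚ) - DecSh.mult k X L E)) =
      -(δ * a * (DecSh.mult k X L (cokernel ι) : ℚ)) := by rw [h2]; ring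
  linarith

/-- The quotient sectional condition bounds the Euler characteristics of submodules. -/
theorem subLe_of_quot_sectional [Infinite k] {δ : ℚ} (hδ : 0 < δ) {c : ℚ} (hc : 0 ≤ c)
    (hbound : ∀ F : X.Modules, Coh.IsCoh F → ShStab.IsPure X F 1 → ∀ μ : ℚ, SlopeLe k L F μ → ∀ n : ℕ,
      (Module.finrank k (Coh.HH X (ShStab.twist X L F n) 0) : ℚ) ≤
        (DecSh.mult k X L F : ℚ) * max 0 ((n : ℚ) + μ + c))
    {m : ℕ} (hm : 0 < (m : ℚ) + ((Curv2.euler k X E : ℚ) - δ * a) / DecSh.mult k X L E)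
    (hq : ∀ 𝓕 : DecSh.WFilt E, (∀ i, Coh.IsCoh ((𝓕.piece i : Subobject E) : X.Modules)) →
      (∑ i, 𝓕.wt i * ((DecSh.mult k X L (cokernel (𝓕.piece i).arrow) : ℚ) *
          (Curv2.euler k X (ShStab.twist X L E m) : ℚ) -
        (DecSh.mult k X L E : ℚ) *
          (Module.finrank k (Coh.HH X (ShStab.twist X L (cokernel (𝓕.piece i).arrow) m) 0) : ℚ))) +
        δ * T.mu k L 𝓕 ≤ 0) :
    SubLe k E (|(Curv2.euler k X E : ℚ)| + (DecSh.mult k X L E : ℚ) *
      |((Curv2.euler k X E : ℚ) - δ * a) / DecSh.mult k X L E - c|) := by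
  intro G ι hι hG hz
  haveI := hι
  have h1 := one_le_mult k hd hL hp ι hG hz
  have hle := mult_le_of_mono k hd hL ι hG hE
  set μ₀ : ℚ := ((Curv2.euler k X E : ℚ) - δ * a) / DecSh.mult k X L E with hμ₀
  have hA : (1 : ℚ) ≤ DecSh.mult k X L E := by exact_mod_cast h1.trans hle
  have habs : 0 ≤ (DecSh.mult k X L E : ℚ) * |μ₀ - c| := mul_nonneg (by linarith) (abs_nonneg _)
  have hC := isCoh_cokernel k ι hG hE
  have e1 := mult_cokernel k hL.1 ι hG hE
  have e2 : (Curv2.euler k X E : ℚ) = Curv2.euler k X G + Curv2.euler k X (cokernel ι) := by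
    exact_mod_cast euler_cokernel k ι hG hE
  rcases eq_or_lt_of_le (mult_nonneg k hd hL hC) with h0 | h0
  · have h2 : (0 : ℚ) ≤ Curv2.euler k X (cokernel ι) := by
      exact_mod_cast (euler_nonneg_of_mult_eq_zero k hd hL hC h0.symm).1
    linarith [le_abs_self (Curv2.euler k X E : ℚ)]
  obtain ⟨Q, p, hpe, hQ, hQ1, hQp, hQs, hmin⟩ := exists_min_quotient k hd hL hE (h1.trans hle)
  haveI := hpe
  set μ : ℚ := (Curv2.euler k X Q : ℚ) / DecSh.mult k X L Q with hμ
  have hK := isCoh_kernel k p hE hQ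
  have hμlow : μ₀ - c ≤ μ := by
    by_cases hKz : IsZero (kernel p)
    · have e3 := mult_kernel k hL.1 p hE hQ
      have e4 := euler_kernel k p hE hQ
      rw [mult_zero k hKz, zero_add] at e3
      rw [euler_zero k hKz, zero_add] at e4
      rw [hμ, ← e3, ← e4, hμ₀]
      have : 0 ≤ δ * a / (DecSh.mult k X L E : ℚ) := div_nonneg (by positivity) (by linarith)
      rw [sub_div]
      linarith
    have hni : ¬ IsIso (kernel.ι p) := fun hi => by
      haveI := hi
      have hp0 : p = 0 := by rw [← cancel_epi (kernel.ι p), kernel.condition, comp_zero]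
      have : IsZero Q := IsZero.of_epi_eq_zero p hp0
      rw [mult_zero k this] at hQ1
      omega
    have h := le_h0_cokernel k hd hL hE T hδ hq (kernel.ι p) hK hKz hni
    let eQ : cokernel (kernel.ι p) ≅ Q :=
      (cokernelIsCokernel (kernel.ι p)).coconePointUniqueUpToIso (shortExact_kernel k p).gIsCokernel
    rw [mult_of_iso k L eQ, (Euler.hhEquiv (A := k) (show ShStab.twist X L (cokernel (kernel.ι p)) m ≅
      ShStab.twist X L Q m from Ample.LineData.tensorModMapIso eQ (Iso.refl _)) 0).finrank_eq] at h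
    have hQ1' : (1 : ℚ) ≤ DecSh.mult k X L Q := by exact_mod_cast hQ1
    have h5 : (DecSh.mult k X L Q : ℚ) * ((m : ℚ) + μ₀) ≤
        (DecSh.mult k X L Q : ℚ) * max 0 ((m : ℚ) + μ + c) := by
      refine le_trans ?_ (hbound Q hQ hQp μ hQs m)
      refine le_of_mul_le_mul_left (le_trans (le_of_eq ?_) h) (lt_of_lt_of_le zero_lt_one hA)
      rw [hμ₀]
      field_simp
      ring
    have h6 := le_of_mul_le_mul_left h5 (lt_of_lt_of_le zero_lt_one hQ1')
    rcases le_max_iff.1 h6 with h7 | h7 <;> linarith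
  have h7 := hmin (cokernel ι) (cokernel.π ι) inferInstance hC h0
  have h0' : (0 : ℚ) < DecSh.mult k X L (cokernel ι) := by exact_mod_cast h0
  rw [le_div_iff₀ h0'] at h7
  have hQC : (DecSh.mult k X L (cokernel ι) : ℚ) ≤ DecSh.mult k X L E := by
    have : DecSh.mult k X L (cokernel ι) ≤ DecSh.mult k X L E := by
      have := mult_nonneg k hd hL hG
      omega
    exact_mod_cast this
  have h8 : -((DecSh.mult k X L E : ℚ) * |μ₀ - c|) ≤ μ * DecSh.mult k X L (cokernel ι) := by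
    have := mul_le_mul_of_nonneg_right hμlow h0'.le
    have := mul_le_mul_of_nonneg_right hQC (abs_nonneg (μ₀ - c))
    have := mul_le_mul_of_nonneg_left (neg_abs_le (μ₀ - c)) h0'.le
    linarith
  linarith [le_abs_self (Curv2.euler k X E : ℚ)]

end GrothLib.DecSh20
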