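import Groth.Agent.Lib.Hilb20.Saturation
import Groth.Agent.Lib.WeakAss.Basic
import Groth.Agent.Lib.CMReg.SupportOne
import Groth.Agent.Lib.FacDiv.Principal
import Groth.Prelude.Def_TorSh

/-!
# Torsion free modules on reduced curves are pure
-/

set_option autoImplicit false
set_option linter.style.haveILetI false
set_option maxHeartbeats 1000000
set_option backward.isDefEq.respectTransparency.types false

universe u

open CategoryTheory CategoryTheory.Limits AlgebraicGeometry Opposite TopologicalSpace
open GrothLib.Snapper (DimLT)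

noncomputable section

namespace GrothLib.DecSh20

/-- In a reduced Noetherian ring an ideal of zero divisors lies in a minimal prime. -/
theorem exists_minimalPrime_of_zero_divisors {R : Type u} [CommRing R] [IsNoetherianRing R] [IsReduced R]
    (I : Ideal R) (h : ∀ r ∈ I, ¬ IsRegular r) : ∃ p ∈ minimalPrimes R, I ≤ p := by
  have hsub : (I : Set R) ⊆ ⋃ p ∈ (minimalPrimes.finite_of_isNoetherianRing R).toFinset, (p : Set R) := by
    intro r hr
    by_contra hno
    simp only [Set.mem_iUnion, not_exists, Set.Finite.mem_toFinset] at hno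
    have hz : ∀ s, r * s = 0 → s = 0 := fun s hs => by
      have hmem : s ∈ sInf (minimalPrimes R) := Ideal.mem_sInf.2 fun {p} hp =>
        (hp.1.1.mem_or_mem (hs ▸ p.zero_mem)).resolve_left fun hrp => hno p hp hrp
      rw [minimalPrimes, Ideal.sInf_minimalPrimes] at hmem
      have hn : s ∈ nilradical R := hmem
      simpa [nilradical_eq_zero] using hn
    refine h r hr ⟨fun a b hab => ?_, fun a b hab => ?_⟩
    · exact sub_eq_zero.1 (hz _ (by rw [mul_sub]; exact sub_eq_zero.2 hab))
    · refine sub_eq_zero.1 (hz _ ?_)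
      rw [mul_sub, mul_comm r a, mul_comm r b]
      exact sub_eq_zero.2 hab
  obtain ⟨p, hp, hle⟩ := (Ideal.subset_union_prime ⊥ ⊥ fun i hi _ _ =>
    ((Set.Finite.mem_toFinset _).1 hi).1.1).1 hsub
  exact ⟨p, (Set.Finite.mem_toFinset _).1 hp, hle⟩

variable {X : Scheme.{u}}

/-- A weakly associated point of a torsion free module on a reduced scheme has no proper generisation. -/
theorem eq_of_specializes_of_weakAss [IsLocallyNoetherian X] [IsReduced X] {F : X.Modules}
    (htf : TorSh.IsTorsionFree F) {x : X} (hx : Curv2.IsWeakAssPoint F x) {z : X} (hz : z ⤳ x) : z = x := by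
  obtain ⟨m, hm⟩ := hx
  have hzd : ∀ r ∈ LinearMap.ker (LinearMap.toSpanSingleton (X.presheaf.stalk x) (F.presheaf.stalk x) m),
      ¬ IsRegular r := fun r hr hreg => by
    haveI := htf x
    have h0 : r • m = 0 := hr
    have hm0 : m = 0 := hreg.isSMulRegular (by simpa using h0)
    rw [hm0, show LinearMap.ker (LinearMap.toSpanSingleton (X.presheaf.stalk x) (F.presheaf.stalk x) 0) = ⊤ from
      eq_top_iff.2 fun a _ => smul_zero a, Ideal.radical_top] at hm
    exact (IsLocalRing.maximalIdeal.isMaximal (X.presheaf.stalk x)).ne_top hm.symm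
  obtain ⟨p, hp, hle⟩ := exists_minimalPrime_of_zero_divisors _ hzd
  haveI := hp.1.1
  have hmax : IsLocalRing.maximalIdeal (X.presheaf.stalk x) ≤ p := by
    rw [← hm]
    exact (Ideal.IsPrime.radical_le_iff hp.1.1).2 hle
  obtain ⟨q, hq⟩ : z ∈ Set.range (X.fromSpecStalk x).base := by rw [Scheme.range_fromSpecStalk]; exact hz
  have h1 : q.asIdeal = IsLocalRing.maximalIdeal _ :=
    le_antisymm (IsLocalRing.le_maximalIdeal q.2.ne_top)
      (hmax.trans (hp.2 ⟨q.2, bot_le⟩ ((IsLocalRing.le_maximalIdeal q.2.ne_top).trans hmax)))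
  have h2 : q = IsLocalRing.closedPoint (X.presheaf.stalk x) := PrimeSpectrum.ext h1
  rw [← hq, h2]
  exact Scheme.fromSpecStalk_closedPoint

/-- A torsion free module on a reduced curve without isolated points is pure. -/
theorem isPure_of_torsionFree [IsNoetherian X] [IsReduced X] (hdim : topologicalKrullDim X = 1)
    (hiso : ∀ x : X, ¬ IsOpen ({x} : Set X)) {F : X.Modules} (htf : TorSh.IsTorsionFree F) :
    ShStab.IsPure X F 1 := by
  intro G ι hι hG hne
  haveI := hι
  haveI := hG.1
  have hle : topologicalKrullDim (CohB1.support G) ≤ ((1 : ℕ) : WithBot ℕ∞) := by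
    rw [Nat.cast_one, ← hdim]
    exact Topology.IsInducing.topologicalKrullDim_le (f := Subtype.val) Topology.IsInducing.subtypeVal
  by_contra hd
  have hd0 : DimLT (CohB1.support G) 1 := by
    intro l hl
    by_contra hlt
    push Not at hlt
    refine hd (le_antisymm hle ?_)
    exact le_trans (by exact_mod_cast hlt) (Snapper.length_le_dim _ l hl)
  obtain ⟨V, hV, s, hs⟩ : ∃ (V : X.Opens) (_ : IsAffineOpen V) (s : Γ(G, V)), s ≠ 0 := by
    by_contra hno
    push Not at hno
    refine hne ((IsZero.iff_id_eq_zero G).2 (Scheme.Modules.hom_ext _ _ fun W => AddCommGrpCat.ext fun t => ?_))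
    show t = 0
    refine QCoh.section_eq_zero_of_germ G t fun x hx => ?_
    obtain ⟨_, ⟨V, hV, rfl⟩, hxV, hVW⟩ :=
      X.isBasis_affineOpens.exists_subset_of_mem_open (SetLike.mem_coe.2 hx) W.2
    erw [← TopCat.Presheaf.germ_res_apply G.presheaf (homOfLE (show V ≤ W from hVW)) x hxV t]
    rw [show G.presheaf.map (homOfLE (show V ≤ W from hVW)).op t = 0 from hno V hV _, map_zero]
  obtain ⟨x, hxV, hw, hg⟩ := WeakAss.exists_isWeakAssPoint hV hs
  have hxs : x ∈ CohB1.support G := fun h => hg (@Subsingleton.elim _ h _ _)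
  have hwF : Curv2.IsWeakAssPoint F x := by
    obtain ⟨m, hm⟩ := hw
    refine ⟨QCoh.stalkLin ι x m, hm ▸ congrArg Ideal.radical ?_⟩
    ext r
    rw [LinearMap.mem_ker, LinearMap.mem_ker, LinearMap.toSpanSingleton_apply, LinearMap.toSpanSingleton_apply,
      ← map_smul]
    exact map_eq_zero_iff _ (QCoh.stalkLin_injective ι x)
  refine hiso x (FacDiv.isOpen_singleton_of_isolated (fun z hz => eq_of_specializes_of_weakAss htf hwF hz) ?_)
  intro z hz
  by_contra hzx
  have hzS : z ∈ CohB1.support G :=
    hz.mem_closed (QCoh.isClosed_support_of_isCoh hG) hxs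
  have hlt : z < x := lt_of_le_not_ge (show x ⤳ z from hz) fun h => hzx ((Specializes.antisymm (show z ⤳ x from h) hz).eq)
  have := hd0 ((RelSeries.singleton _ z).snoc x hlt) fun i => by
    refine Fin.lastCases ?_ (fun i => ?_) i
    · rw [show ((RelSeries.singleton _ z).snoc x hlt) (Fin.last _) = x from RelSeries.last_snoc _ x hlt]
      exact hxs
    · rw [show ((RelSeries.singleton _ z).snoc x hlt) i.castSucc = (RelSeries.singleton _ z : LTSeries X) i from
        RelSeries.snoc_castSucc _ x hlt i]
      exact hzS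
  simp at this

end GrothLib.DecSh20
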